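import Groth.Agent.Lib.GrBass.Fibre
import Groth.Prelude.Def_GrLC2

/-!
# Bass numbers of a graded module at a prime and at its homogeneous core
-/

universe u

open DirectSum CategoryTheory CategoryTheory.Abelian

namespace GrothLib.GrBass

open _root_.GrLC (GMod bassNum)
open GrothLib.GrLC (gmod)

noncomputable section

variable {ι : Type} [AddCommGroup ι] [DecidableEq ι] {R : Type u} [CommRing R] {σ : Type u} [SetLike σ R]
  [AddSubgroupClass σ R] {𝒜 : ι → σ} [GradedRing 𝒜]

theorem over_core (P : Ideal R) : Over (P.homogeneousCore 𝒜) P :=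
  ⟨Ideal.toIdeal_homogeneousCore_le 𝒜 P,
    fun j _ hs hsq hsP => hsq (Ideal.mem_homogeneousCore_of_homogeneous_of_mem ⟨j, hs⟩ hsP)⟩

/-- Precomposition with an isomorphism. -/
def extSourceEquiv {A : Type u} [CommRing A] {X X' : ModuleCat.{u} A} (e : X ≅ X') (Y : ModuleCat.{u} A) (i : ℕ) :
    Ext X' Y i ≃ₗ[A] Ext X Y i where
  toFun x := (Ext.mk₀ e.hom).comp x (zero_add i)
  invFun x := (Ext.mk₀ e.inv).comp x (zero_add i)
  map_add' a b := Ext.comp_add _ _ _ _
  map_smul' r a := Ext.comp_smul _ _ _ _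
  left_inv x := by
    change Ext.comp _ (Ext.comp _ x _) _ = x
    rw [Ext.mk₀_comp_mk₀_assoc, e.inv_hom_id, Ext.mk₀_id_comp]
  right_inv x := by
    change Ext.comp _ (Ext.comp _ x _) _ = x
    rw [Ext.mk₀_comp_mk₀_assoc, e.hom_inv_id, Ext.mk₀_id_comp]

/-- Postcomposition with an isomorphism. -/
def extTargetEquiv {A : Type u} [CommRing A] (X : ModuleCat.{u} A) {Y Y' : ModuleCat.{u} A} (e : Y ≅ Y') (i : ℕ) :
    Ext X Y i ≃ₗ[A] Ext X Y' i where
  toFun x := x.comp (Ext.mk₀ e.hom) (add_zero i)
  invFun x := x.comp (Ext.mk₀ e.inv) (add_zero i)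
  map_add' a b := Ext.add_comp _ _ _ _
  map_smul' r a := Ext.smul_comp _ _ _ _
  left_inv x := by
    change Ext.comp (Ext.comp x _ _) _ _ = x
    rw [Ext.comp_assoc_of_third_deg_zero, Ext.mk₀_comp_mk₀, e.hom_inv_id, Ext.comp_mk₀_id]
  right_inv x := by
    change Ext.comp (Ext.comp x _ _) _ _ = x
    rw [Ext.comp_assoc_of_third_deg_zero, Ext.mk₀_comp_mk₀, e.inv_hom_id, Ext.comp_mk₀_id]

omit [DecidableEq ι] in
/-- The two models of the localised module agree. -/
theorem nonempty_iso_localized (P : Ideal R) [P.IsPrime] (M : Type u) [AddCommGroup M] [Module R M] :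
    Nonempty ((ModuleCat.of R M).localizedModule P.primeCompl ≅
      ModuleCat.of (Localization P.primeCompl) (LocalizedModule P.primeCompl M)) := by
  haveI := ModuleCat.localizedModule_isLocalizedModule (ModuleCat.of R M) P.primeCompl
  let e := IsLocalizedModule.linearEquiv P.primeCompl ((ModuleCat.of R M).localizedModuleMkLinearMap P.primeCompl)
    (LocalizedModule.mkLinearMap P.primeCompl M)
  exact ⟨(LinearEquiv.ofBijective (e.toLinearMap.extendScalarsOfIsLocalization P.primeCompl (Localization P.primeCompl)) e.bijective).toModuleIso⟩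

variable [IsNoetherianRing R]

/-- The lengths of the localised `Ext`s out of a graded prime. -/
theorem length_ext_eq {q : HomogeneousIdeal 𝒜} [q.toIdeal.IsPrime] (X : GMod.{u} 𝒜) (i : ℕ) {Λ : Type u}
    (h : Nonempty (Ext ((ModuleCat.of R (R ⧸ q.toIdeal)).localizedModule q.toIdeal.primeCompl)
        ((ModuleCat.of R X.carrier).localizedModule q.toIdeal.primeCompl) i ≃ₗ[Localization q.toIdeal.primeCompl]
        (Λ →₀ Localization q.toIdeal.primeCompl ⧸
          q.toIdeal.map (algebraMap R (Localization q.toIdeal.primeCompl))))) :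
    bassNum q.toIdeal X.carrier i = ENat.card Λ := by
  obtain ⟨e⟩ := h
  obtain ⟨eB⟩ := nonempty_iso_quotient (q := q) q.toIdeal
  obtain ⟨eY⟩ := nonempty_iso_localized q.toIdeal X.carrier
  have hmax : q.toIdeal.map (algebraMap R (Localization q.toIdeal.primeCompl)) =
      IsLocalRing.maximalIdeal (Localization.AtPrime q.toIdeal) := Localization.AtPrime.map_eq_maximalIdeal
  let eK : ModuleCat.of (Localization q.toIdeal.primeCompl) (IsLocalRing.ResidueField (Localization.AtPrime q.toIdeal)) ≅
      ModuleCat.of (Localization q.toIdeal.primeCompl)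
        (Localization q.toIdeal.primeCompl ⧸ q.toIdeal.map (algebraMap R (Localization q.toIdeal.primeCompl))) :=
    (Submodule.quotEquivOfEq _ _ hmax.symm).toModuleIso
  haveI : IsSimpleModule (Localization q.toIdeal.primeCompl)
      (Localization q.toIdeal.primeCompl ⧸ q.toIdeal.map (algebraMap R (Localization q.toIdeal.primeCompl))) := by
    rw [hmax]
    exact isSimpleModule_iff_isCoatom.2 (Ideal.isMaximal_def.1 (IsLocalRing.maximalIdeal.isMaximal _))
  change Module.length (Localization q.toIdeal.primeCompl) (Ext (ModuleCat.of (Localization q.toIdeal.primeCompl) _)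
    (ModuleCat.of (Localization q.toIdeal.primeCompl) _) i) = _
  rw [((extTargetEquiv _ eY.symm i).trans
    ((extSourceEquiv (eK ≪≫ eB.symm) _ i).symm.trans e)).length_eq, Module.length_finsupp, Module.length_eq_one]
  simp

variable [Module.Free ℤ ι] [Module.Finite ℤ ι]

/-- Bass numbers at a prime are the shifted Bass numbers at its core. -/
theorem bassNum_shift {q : HomogeneousIdeal 𝒜} [q.toIdeal.IsPrime] (X : GMod.{u} 𝒜) (P : Ideal R) [P.IsPrime]
    (hP : Over q P) {d : ℕ} (hd : (P.map (Ideal.Quotient.mk q.toIdeal)).height = d) :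
    (∀ i, i < d → bassNum P X.carrier i = 0) ∧
      ∀ i, d ≤ i → bassNum P X.carrier i = bassNum q.toIdeal X.carrier (i - d) := by
  have hq : q.toIdeal.IsPrime := inferInstance
  choose Λ hΛ using fun b => exists_rank (q := q) hq b X
  obtain ⟨eB⟩ := nonempty_iso_quotient (q := q) P
  obtain ⟨eY⟩ := nonempty_iso_localized P X.carrier
  obtain ⟨rs, hlen, hreg, hsup⟩ := exists_regular_fib hP hq hd
  have h0 : HasRanks (q.toIdeal.map (algebraMap R (Localization P.primeCompl)))
      (ModuleCat.of (Localization P.primeCompl) (LocalizedModule P.primeCompl X.carrier)) Λ := fun i => by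
    obtain ⟨e⟩ := hΛ i P hP
    exact ⟨(extSourceEquiv eB _ i).trans ((extTargetEquiv _ eY.symm i).trans e)⟩
  have h1 := hasRanks_regular rs _ Λ h0 hreg
  rw [hsup, hlen] at h1
  have hlenP : ∀ i, bassNum P X.carrier i = ENat.card (shiftRank^[d] Λ i) := fun i =>
    length_eq_card (A := Localization.AtPrime P) h1 i
  refine ⟨fun i hi => ?_, fun i hi => ?_⟩
  · haveI := shiftRank_of_lt Λ d i hi
    rw [hlenP, ENat.card_eq_zero_iff_empty]
    infer_instance
  · rw [hlenP, shiftRank_of_le Λ d i hi, length_ext_eq X (i - d) (hΛ (i - d) q.toIdeal (over_self q))]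

end

end GrothLib.GrBass
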