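import Mathlib.Algebra.Category.ModuleCat.Ext.DimensionShifting
import Mathlib.RingTheory.Regular.RegularSequence
import Mathlib.RingTheory.Length
import Mathlib.LinearAlgebra.Finsupp.Pi
import Mathlib.RingTheory.Ideal.Quotient.Operations
import Mathlib.CategoryTheory.Abelian.Ext
import Mathlib.RingTheory.LocalRing.ResidueField.Basic
import Mathlib.RingTheory.QuotSMulTop
import Groth.Agent.Lib.Gor.Hull

/-!
# `Ext` modules that are free over a quotient ring, along a regular sequence
-/

universe u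

open CategoryTheory CategoryTheory.Abelian

open scoped Pointwise

namespace GrothLib.GrBass

noncomputable section

variable {A : Type u} [CommRing A]

/-- Every `Ext^i(A/J, Y)` is free over `A/J` on `Λ i`. -/
def HasRanks (J : Ideal A) (Y : ModuleCat.{u} A) (Λ : ℕ → Type u) : Prop :=
  ∀ i, Nonempty (Ext (ModuleCat.of A (A ⧸ J)) Y i ≃ₗ[A] (Λ i →₀ A ⧸ J))

/-- The ranks shifted up by one. -/
def shiftRank (Λ : ℕ → Type u) : ℕ → Type u
  | 0 => PEmpty.{u + 1}
  | i + 1 => Λ i

variable {J : Ideal A} {Y : ModuleCat.{u} A} {Λ : ℕ → Type u}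

theorem hasRanks_step (h : HasRanks J Y Λ) {x : A} (hx : IsSMulRegular (A ⧸ J) x) :
    HasRanks (J ⊔ Ideal.span {x}) Y (shiftRank Λ) := by
  classical
  let J' := J ⊔ Ideal.span {x}
  let Sc : ShortComplex (ModuleCat.{u} A) :=
    ShortComplex.mk (X₁ := ModuleCat.of A (A ⧸ J)) (X₂ := ModuleCat.of A (A ⧸ J)) (X₃ := ModuleCat.of A (A ⧸ J'))
      (x • 𝟙 _) (ModuleCat.ofHom (Submodule.factor le_sup_left))
      (ModuleCat.hom_ext (LinearMap.ext fun z => by
        obtain ⟨z, rfl⟩ := Submodule.Quotient.mk_surjective _ z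
        exact (Submodule.Quotient.mk_eq_zero _).2 (Ideal.mem_sup_right
          (Ideal.mul_mem_right z _ (Ideal.mem_span_singleton_self x)))))
  have hS : Sc.ShortExact :=
    { exact := (ShortComplex.moduleCat_exact_iff _).2 fun z hz => by
        obtain ⟨z, rfl⟩ := Submodule.Quotient.mk_surjective _ z
        obtain ⟨a, ha, b, hb, rfl⟩ := Submodule.mem_sup.1 ((Submodule.Quotient.mk_eq_zero _).1 hz)
        obtain ⟨d, rfl⟩ := Ideal.mem_span_singleton'.1 hb
        refine ⟨Submodule.Quotient.mk d, (Submodule.Quotient.eq J).2 ?_⟩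
        show x * d - (a + d * x) ∈ J
        rw [mul_comm x d, sub_add_cancel_right]
        exact neg_mem ha
      mono_f := (ModuleCat.mono_iff_injective _).2 fun a b hab => hx hab
      epi_g := (ModuleCat.epi_iff_surjective _).2 (Submodule.factor_surjective le_sup_left) }
  have hpre : ∀ (n : ℕ) (e : Ext (ModuleCat.of A (A ⧸ J)) Y n), (Ext.mk₀ Sc.f).comp e (zero_add n) = x • e :=
    fun n e => by
      change (Ext.mk₀ (x • 𝟙 _)).comp e _ = _
      rw [Ext.mk₀_smul, Ext.smul_comp, Ext.mk₀_id_comp]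
  have hregΛ : ∀ n, IsSMulRegular (Λ n →₀ A ⧸ J) x := fun n a b hab => Finsupp.ext fun l => hx (DFunLike.congr_fun hab l)
  have hinj : ∀ (n : ℕ) (e : Ext (ModuleCat.of A (A ⧸ J)) Y n), x • e = 0 → e = 0 := fun n e he => by
    obtain ⟨φ⟩ := h n
    refine φ.injective ((hregΛ n).right_eq_zero_of_smul (r := x) ?_ |>.trans (map_zero φ).symm)
    rw [← map_smul, he, map_zero]
  intro i
  rcases i with - | n
  · have hsub : Subsingleton (Ext (ModuleCat.of A (A ⧸ J')) Y 0) := subsingleton_of_forall_eq 0 fun e => by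
      obtain ⟨φ, rfl⟩ := (Ext.mk₀_bijective _ _).2 e
      have h1 : (Ext.mk₀ Sc.g).comp (Ext.mk₀ φ) (zero_add 0) = 0 := by
        refine hinj 0 _ ?_
        rw [← hpre 0, Ext.mk₀_comp_mk₀, Ext.mk₀_comp_mk₀, ← Category.assoc, Sc.zero, Limits.zero_comp, Ext.mk₀_zero]
      rw [Ext.mk₀_comp_mk₀, ← Ext.mk₀_zero, (Ext.mk₀_bijective _ _).1.eq_iff] at h1
      have : Epi Sc.g := hS.epi_g
      rw [show φ = 0 from (cancel_epi Sc.g).1 (h1.trans Limits.comp_zero.symm), Ext.mk₀_zero]
    haveI : IsEmpty (shiftRank Λ 0) := inferInstanceAs (IsEmpty PEmpty)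
    exact ⟨LinearEquiv.ofSubsingleton _ _⟩
  obtain ⟨φ⟩ := h n
  let δ : Ext (ModuleCat.of A (A ⧸ J)) Y n →ₗ[A] Ext (ModuleCat.of A (A ⧸ J')) Y (n + 1) :=
    { toFun := fun e => hS.extClass.comp e (by omega)
      map_add' := fun a b => Ext.comp_add _ _ _ _
      map_smul' := fun r a => Ext.comp_smul _ _ _ _ }
  let Φ : (Λ n →₀ A ⧸ J) →ₗ[A] Ext (ModuleCat.of A (A ⧸ J')) Y (n + 1) := δ ∘ₗ φ.symm.toLinearMap
  have hδ : Function.Surjective δ := fun e => by
    have h1 : (Ext.mk₀ Sc.g).comp e (zero_add (n + 1)) = 0 := by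
      refine hinj _ _ ?_
      rw [← hpre, ← Ext.comp_assoc_of_second_deg_zero, Ext.mk₀_comp_mk₀, Sc.zero, Ext.mk₀_zero, Ext.zero_comp]
    obtain ⟨y, hy⟩ := Ext.contravariant_sequence_exact₃ hS Y e h1 (n₀ := n) (by omega)
    exact ⟨y, hy⟩
  let ψ : (Λ n →₀ A ⧸ J) →ₗ[A] (Λ n →₀ A ⧸ J') := Finsupp.mapRange.linearMap (Submodule.factor le_sup_left)
  have hψ : Function.Surjective ψ := fun b => by
    obtain ⟨a, ha⟩ := Finsupp.mapRange_surjective (α := Λ n) _
      (map_zero (Submodule.factor (p := J) (p' := J') le_sup_left)) (Submodule.factor_surjective le_sup_left) b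
    exact ⟨a, ha⟩
  have hker : LinearMap.ker Φ = LinearMap.ker ψ := by
    refine le_antisymm (fun a ha => ?_) fun a ha => ?_
    · obtain ⟨y, hy⟩ := Ext.contravariant_sequence_exact₁ hS Y (φ.symm a) (n₁ := n + 1) (by omega) ha
      rw [hpre] at hy
      rw [show a = x • φ y by rw [← map_smul, hy, LinearEquiv.apply_symm_apply]]
      refine LinearMap.mem_ker.2 (Finsupp.ext fun l => ?_)
      change Submodule.factor le_sup_left (x • (φ y) l) = (0 : A ⧸ J')
      obtain ⟨c, hc⟩ := Submodule.Quotient.mk_surjective _ ((φ y) l)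
      rw [← hc, ← Submodule.Quotient.mk_smul]
      exact (Submodule.Quotient.mk_eq_zero J').2 (Ideal.mem_sup_right
        (Ideal.mul_mem_right c _ (Ideal.mem_span_singleton_self x)))
    · have hl : ∀ l, ∃ c : A ⧸ J, a l = x • c := fun l => by
        have h1 := DFunLike.congr_fun (LinearMap.mem_ker.1 ha) l
        obtain ⟨c, hc⟩ := Submodule.Quotient.mk_surjective _ (a l)
        change Submodule.factor le_sup_left (a l) = (0 : A ⧸ J') at h1
        rw [← hc] at h1
        obtain ⟨u, hu, v, hv, huv⟩ := Submodule.mem_sup.1 ((Submodule.Quotient.mk_eq_zero J').1 h1)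
        obtain ⟨d, rfl⟩ := Ideal.mem_span_singleton'.1 hv
        refine ⟨Submodule.Quotient.mk d, ?_⟩
        rw [← hc, ← Submodule.Quotient.mk_smul, Submodule.Quotient.eq]
        have huv' : u + d * x = c := huv
        rw [smul_eq_mul, ← huv', mul_comm x d, add_sub_cancel_right]
        exact hu
      choose c hc using hl
      have hax : a = x • Finsupp.onFinset a.support c (fun l hl => Finsupp.mem_support_iff.2 fun h0 => hl
          (hx.right_eq_zero_of_smul (by rw [← hc l, h0]))) := Finsupp.ext fun l => by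
        rw [Finsupp.smul_apply, Finsupp.onFinset_apply, hc l]
      refine LinearMap.mem_ker.2 ?_
      change hS.extClass.comp (φ.symm a) (show 1 + n = n + 1 by omega) = 0
      rw [hax, map_smul, ← hpre, ← Ext.comp_assoc_of_second_deg_zero, hS.extClass_comp, Ext.zero_comp]
  exact ⟨(Φ.quotKerEquivOfSurjective (hδ.comp φ.symm.surjective)).symm ≪≫ₗ
    Submodule.quotEquivOfEq _ _ hker ≪≫ₗ ψ.quotKerEquivOfSurjective hψ⟩

theorem hasRanks_congr {J' : Ideal A} (h : HasRanks J Y Λ) (e : J = J') : HasRanks J' Y Λ := e ▸ h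

open RingTheory.Sequence in
/-- Along a regular sequence the ranks move up by its length. -/
theorem hasRanks_regular : ∀ (rs : List A) (J : Ideal A) (Λ : ℕ → Type u), HasRanks J Y Λ →
    IsWeaklyRegular (A ⧸ J) rs → HasRanks (J ⊔ Ideal.ofList rs) Y (shiftRank^[rs.length] Λ) := by
  intro rs
  induction rs with
  | nil =>
    intro J Λ h _
    exact hasRanks_congr h (by simp)
  | cons x rs ih =>
    intro J Λ h hreg
    rw [isWeaklyRegular_cons_iff] at hreg
    have e : (QuotSMulTop x (A ⧸ J)) ≃ₗ[A] A ⧸ (J ⊔ Ideal.span {x}) := by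
      let π : (A ⧸ J) →ₗ[A] A ⧸ (J ⊔ Ideal.span {x}) := Submodule.factor le_sup_left
      have hπ : LinearMap.ker π = x • (⊤ : Submodule A (A ⧸ J)) := by
        refine le_antisymm (fun z hz => ?_) ?_
        · obtain ⟨z, rfl⟩ := Submodule.Quotient.mk_surjective _ z
          obtain ⟨a, ha, b, hb, rfl⟩ := Submodule.mem_sup.1 ((Submodule.Quotient.mk_eq_zero _).1 hz)
          obtain ⟨d, rfl⟩ := Ideal.mem_span_singleton'.1 hb
          refine (Submodule.mem_smul_pointwise_iff_exists _ _ _).2 ⟨Submodule.Quotient.mk d, trivial, ?_⟩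
          rw [← Submodule.Quotient.mk_smul, Submodule.Quotient.eq, smul_eq_mul, mul_comm x d, sub_add_cancel_right]
          exact neg_mem ha
        · intro z hz
          obtain ⟨y, -, rfl⟩ := (Submodule.mem_smul_pointwise_iff_exists _ _ _).1 hz
          obtain ⟨y, rfl⟩ := Submodule.Quotient.mk_surjective _ y
          exact (Submodule.Quotient.mk_eq_zero _).2 (Ideal.mem_sup_right
            (Ideal.mul_mem_right y _ (Ideal.mem_span_singleton_self x)))
      exact Submodule.quotEquivOfEq _ _ hπ.symm ≪≫ₗ π.quotKerEquivOfSurjective (Submodule.factor_surjective le_sup_left)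
    have h2 := ih _ _ (hasRanks_step h hreg.1) ((e.isWeaklyRegular_congr rs).1 hreg.2)
    rw [List.length_cons, Function.iterate_succ, Function.comp_apply, Ideal.ofList_cons, ← sup_assoc]
    exact h2

/-- Shifted ranks below the shift are empty. -/
theorem shiftRank_of_lt (Λ : ℕ → Type u) : ∀ d i : ℕ, i < d → IsEmpty (shiftRank^[d] Λ i) := by
  intro d
  induction d with
  | zero => intro i hi; omega
  | succ d ih =>
    intro i hi
    rw [Function.iterate_succ', Function.comp_apply]
    rcases i with - | i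
    · exact inferInstanceAs (IsEmpty PEmpty)
    · exact ih i (by omega)

theorem shiftRank_of_le (Λ : ℕ → Type u) : ∀ d i : ℕ, d ≤ i → shiftRank^[d] Λ i = Λ (i - d) := by
  intro d
  induction d with
  | zero => intro i _; rfl
  | succ d ih =>
    intro i hi
    obtain ⟨i, rfl⟩ : ∃ j, i = j + 1 := ⟨i - 1, by omega⟩
    rw [Function.iterate_succ', Function.comp_apply, show i + 1 - (d + 1) = i - d by omega]
    exact ih i (by omega)

variable [IsLocalRing A]

/-- At the maximal ideal the ranks are the lengths. -/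
theorem length_eq_card (h : HasRanks (IsLocalRing.maximalIdeal A) Y Λ) (i : ℕ) :
    Module.length A (Ext (ModuleCat.of A (IsLocalRing.ResidueField A)) Y i) = ENat.card (Λ i) := by
  obtain ⟨e⟩ := h i
  haveI : IsSimpleModule A (A ⧸ IsLocalRing.maximalIdeal A) :=
    isSimpleModule_iff_isCoatom.2 (Ideal.isMaximal_def.1 (IsLocalRing.maximalIdeal.isMaximal A))
  refine e.length_eq.trans ?_
  rw [Module.length_finsupp, Module.length_eq_one]
  simp

end

end GrothLib.GrBass
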