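import Groth.Agent.Lib.GrLC.Assoc
import Groth.Agent.Lib.GrLC.LocalDim
import Mathlib.RingTheory.Ideal.KrullsHeightTheorem
import Mathlib.RingTheory.Spectrum.Prime.RingHom

/-!
# Dimension below a prime and below its homogeneous core
-/

universe u

open DirectSum

namespace GrothLib.GrBass

open GrothLib.GrLC (cmp cmp_mem)

section Chains

variable {R : Type u} [CommRing R]

/-- A chain between `I` and `p` is no longer than the height of `p / I`. -/
theorem length_le_height_map (I p : Ideal R) [hp : p.IsPrime] (hIp : I ≤ p) (l : LTSeries (PrimeSpectrum R))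
    (hh : I ≤ l.head.asIdeal) (hl : l.last.asIdeal ≤ p) :
    (l.length : ℕ∞) ≤ (p.map (Ideal.Quotient.mk I)).height := by
  have hp' : (p.map (Ideal.Quotient.mk I)).IsPrime := Ideal.isPrime_map_quotientMk_of_isPrime hIp
  rw [← show ((⟨_, hp'⟩ : PrimeSpectrum (R ⧸ I)).asIdeal = p.map (Ideal.Quotient.mk I)) from rfl,
    PrimeSpectrum.height_eq_orderHeight]
  let e := Ideal.primeSpectrumQuotientOrderIsoZeroLocus I
  have hmem : ∀ i, l i ∈ PrimeSpectrum.zeroLocus (R := R) I := fun i =>
    le_trans hh (PrimeSpectrum.asIdeal_le_asIdeal _ _ |>.2 (LTSeries.head_le l i))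
  let l' : LTSeries (PrimeSpectrum (R ⧸ I)) :=
    LTSeries.mk l.length (fun i => e.symm ⟨l i, hmem i⟩) fun i j hij => e.symm.strictMono (l.strictMono hij)
  refine Order.length_le_height (p := l') ?_
  refine e.le_iff_le.1 ?_
  change e (e.symm ⟨l.last, hmem _⟩) ≤ _
  rw [e.apply_symm_apply]
  change l.last.asIdeal ≤ (p.map (Ideal.Quotient.mk I)).comap (Ideal.Quotient.mk I)
  exact hl.trans Ideal.le_comap_map

/-- Bound the height of `p / I` by chains. -/
theorem height_map_le (I p : Ideal R) [hp : p.IsPrime] (hIp : I ≤ p) (n : ℕ∞)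
    (h : ∀ l : LTSeries (PrimeSpectrum R), I ≤ l.head.asIdeal → l.last.asIdeal ≤ p → (l.length : ℕ∞) ≤ n) :
    (p.map (Ideal.Quotient.mk I)).height ≤ n := by
  have hp' : (p.map (Ideal.Quotient.mk I)).IsPrime := Ideal.isPrime_map_quotientMk_of_isPrime hIp
  rw [← show ((⟨_, hp'⟩ : PrimeSpectrum (R ⧸ I)).asIdeal = p.map (Ideal.Quotient.mk I)) from rfl,
    PrimeSpectrum.height_eq_orderHeight, Order.height_le_iff]
  intro l hl
  let e := Ideal.primeSpectrumQuotientOrderIsoZeroLocus I
  have hle := e.monotone hl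
  refine le_of_eq_of_le ?_ (h (l.map (fun z => (e z).1) fun a b hab => e.strictMono hab) ?_ ?_)
  · rfl
  · rw [LTSeries.head_map]
    exact (e l.head).2
  · rw [LTSeries.last_map]
    refine le_trans (show (e l.last).1.asIdeal ≤ (p.map (Ideal.Quotient.mk I)).comap (Ideal.Quotient.mk I) from hle) ?_
    rw [Ideal.comap_map_of_surjective _ Ideal.Quotient.mk_surjective, ← RingHom.ker_eq_comap_bot, Ideal.mk_ker,
      sup_eq_left.2 hIp]

/-- Chains through `q` add. -/
theorem height_add_height_le [IsNoetherianRing R] {I q p : Ideal R} [q.IsPrime] [p.IsPrime] (hIq : I ≤ q)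
    (hqp : q ≤ p) :
    (q.map (Ideal.Quotient.mk I)).height + (p.map (Ideal.Quotient.mk q)).height ≤
      (p.map (Ideal.Quotient.mk I)).height := by
  haveI := Ideal.isPrime_map_quotientMk_of_isPrime hIq
  haveI := Ideal.isPrime_map_quotientMk_of_isPrime hqp
  obtain ⟨m, hm⟩ := ENat.ne_top_iff_exists.1 (Ideal.height_ne_top_of_isPrime (I := q.map (Ideal.Quotient.mk I)))
  obtain ⟨n, hn⟩ := ENat.ne_top_iff_exists.1 (Ideal.height_ne_top_of_isPrime (I := p.map (Ideal.Quotient.mk q)))
  rw [← hm, ← hn]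
  rw [PrimeSpectrum.height_eq_orderHeight ⟨q.map (Ideal.Quotient.mk I), inferInstance⟩] at hm
  rw [PrimeSpectrum.height_eq_orderHeight ⟨p.map (Ideal.Quotient.mk q), inferInstance⟩] at hn
  obtain ⟨a, ha, hal⟩ := Order.exists_series_of_height_eq_coe _ hm.symm
  obtain ⟨b, hb, hbl⟩ := Order.exists_series_of_height_eq_coe _ hn.symm
  let e := Ideal.primeSpectrumQuotientOrderIsoZeroLocus I
  let e' := Ideal.primeSpectrumQuotientOrderIsoZeroLocus q
  let a' := a.map (fun z => (e z).1) fun x y h => e.strictMono h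
  let b' := b.map (fun z => (e' z).1) fun x y h => e'.strictMono h
  have hcomap : ∀ {J r : Ideal R}, J ≤ r → (r.map (Ideal.Quotient.mk J)).comap (Ideal.Quotient.mk J) = r :=
    fun {J r} h => by
      rw [Ideal.comap_map_of_surjective _ Ideal.Quotient.mk_surjective, ← RingHom.ker_eq_comap_bot, Ideal.mk_ker,
        sup_eq_left.2 h]
  have ha' : a'.last.asIdeal = q := by
    rw [LTSeries.last_map, ha]
    exact hcomap hIq
  have hb' : b'.last.asIdeal = p := by
    rw [LTSeries.last_map, hb]
    exact hcomap hqp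
  have hbh : q ≤ b'.head.asIdeal := by
    rw [LTSeries.head_map]
    exact (e' b.head).2
  have hlen : a'.length + b'.length = m + n := by rw [← hal, ← hbl]; rfl
  rcases lt_or_eq_of_le (show a'.last ≤ b'.head from (PrimeSpectrum.asIdeal_le_asIdeal _ _).1 (ha'.le.trans hbh))
    with hlt | heq
  · refine le_trans ?_ (length_le_height_map I p (hIq.trans hqp) (a'.append b' hlt) ?_ ?_)
    · rw [← Nat.cast_add, ← hlen]
      exact_mod_cast Nat.le_succ _
    · rw [RelSeries.head_append, LTSeries.head_map]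
      exact (e a.head).2
    · rw [RelSeries.last_append]
      exact hb'.le
  · refine le_trans ?_ (length_le_height_map I p (hIq.trans hqp) (a'.smash b' heq) ?_ ?_)
    · rw [← Nat.cast_add, ← hlen]
      rfl
    · rw [RelSeries.head_smash, LTSeries.head_map]
      exact (e a.head).2
    · rw [RelSeries.last_smash]
      exact hb'.le

/-- The dimension of the localised support is a height. -/
theorem supportDim_eq_height (M : Type u) [AddCommGroup M] [Module R M] [Module.Finite R M] (p : Ideal R)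
    [p.IsPrime] (hsupp : Module.annihilator R M ≤ p) :
    Module.supportDim (Localization.AtPrime p) (LocalizedModule p.primeCompl M) =
      ((p.map (Ideal.Quotient.mk (Module.annihilator R M))).height : WithBot ℕ∞) := by
  rw [GrothLib.GrLC.supportDim_localized, Module.support_eq_zeroLocus]
  refine le_antisymm (iSup_le fun l => WithBot.coe_le_coe.2 ?_) ?_
  · exact length_le_height_map _ p hsupp (l.map (fun z => z.1) fun a b h => h) l.head.2.1 l.last.2.2
  · haveI : Nonempty {Q : PrimeSpectrum R // Q ∈ PrimeSpectrum.zeroLocus ↑(Module.annihilator R M) ∧ Q.asIdeal ≤ p} :=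
      ⟨⟨⟨p, inferInstance⟩, hsupp, le_rfl⟩⟩
    rw [Order.krullDim_eq_iSup_length, WithBot.coe_le_coe]
    refine height_map_le _ p hsupp _ fun l hh hl => ?_
    exact le_iSup (fun l : LTSeries {Q : PrimeSpectrum R // Q ∈ PrimeSpectrum.zeroLocus ↑(Module.annihilator R M) ∧
      Q.asIdeal ≤ p} => (l.length : ℕ∞)) (LTSeries.mk l.length (fun i => ⟨l i,
        le_trans hh ((PrimeSpectrum.asIdeal_le_asIdeal _ _).2 (LTSeries.head_le l i)),
        le_trans ((PrimeSpectrum.asIdeal_le_asIdeal _ _).2 (l.monotone (Fin.le_last i))) hl⟩) fun i j hij => l.strictMono hij)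

end Chains

variable {ι : Type} [AddCommGroup ι] [d : DecidableEq ι] [Module.Free ℤ ι] [Module.Finite ℤ ι] {R : Type u}
  [CommRing R] {σ : Type u} [SetLike σ R] [AddSubgroupClass σ R] {𝒜 : ι → σ} [GradedRing 𝒜]

theorem isPrime_homogeneousCore (P : Ideal R) [hP : P.IsPrime] : (P.homogeneousCore 𝒜).toIdeal.IsPrime := by
  obtain ⟨o, ho⟩ := GrothLib.GrLC.exists_linearOrder ι
  obtain rfl : d = o.toDecidableEq := Subsingleton.elim _ _
  exact Ideal.IsPrime.homogeneousCore (𝒜 := 𝒜) hP

theorem isHomogeneous_minimalPrime {I : Ideal R} (hI : I.IsHomogeneous 𝒜) {m : Ideal R} (hm : m ∈ I.minimalPrimes) :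
    m.IsHomogeneous 𝒜 := by
  haveI := hm.1.1
  have h := hm.2 (y := (m.homogeneousCore 𝒜).toIdeal) ⟨isPrime_homogeneousCore m, fun r hr => ?_⟩
    (Ideal.toIdeal_homogeneousCore_le 𝒜 m)
  · rw [le_antisymm h (Ideal.toIdeal_homogeneousCore_le 𝒜 m)]
    exact HomogeneousIdeal.isHomogeneous _
  · have : I ≤ (m.homogeneousCore 𝒜).toIdeal := by
      have h2 := Ideal.homogeneousCore_mono 𝒜 hm.1.2
      rw [← hI.toIdeal_homogeneousCore_eq_self]
      exact h2
    exact this hr

theorem le_core {I P : Ideal R} (hI : I.IsHomogeneous 𝒜) (h : I ≤ P) : I ≤ (P.homogeneousCore 𝒜).toIdeal := by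
  rw [← hI.toIdeal_homogeneousCore_eq_self]
  exact Ideal.homogeneousCore_mono 𝒜 h

variable [IsNoetherianRing R]

/-- Over a graded prime below `p`, the heights differ by that of `p / p*`. -/
theorem height_map_le_add (p : Ideal R) [p.IsPrime] {q : Ideal R} [q.IsPrime]
    (hq : q = (p.homogeneousCore 𝒜).toIdeal) (n : ℕ) (hn : (p.map (Ideal.Quotient.mk q)).height = n) :
    ∀ a : Ideal R, a.IsPrime → a.IsHomogeneous 𝒜 → a ≤ q →
      (p.map (Ideal.Quotient.mk a)).height ≤ (q.map (Ideal.Quotient.mk a)).height + n := by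
  intro a
  induction a using WellFoundedGT.induction with
  | ind a ih =>
    intro ha hah haq
    have hqp : q ≤ p := hq ▸ Ideal.toIdeal_homogeneousCore_le 𝒜 p
    rcases eq_or_lt_of_le haq with rfl | hlt
    · rw [hn]
      exact le_add_self
    obtain ⟨g, z, hz, hzq, hza⟩ : ∃ (g : ι) (z : R), z ∈ 𝒜 g ∧ z ∈ q ∧ z ∉ a := by
      obtain ⟨y, hy, hya⟩ := SetLike.exists_of_lt hlt
      by_contra hcon
      push_neg at hcon
      refine hya ((GrothLib.GrLC.exists_sum_cmp 𝒜 y).elim fun S hS => hS ▸ sum_mem fun g _ =>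
        hcon g _ (cmp_mem 𝒜 g y) ?_)
      have hqh : q.IsHomogeneous 𝒜 := hq ▸ HomogeneousIdeal.isHomogeneous _
      exact hqh g hy
    haveI := Ideal.isPrime_map_quotientMk_of_isPrime haq
    haveI := Ideal.isPrime_map_quotientMk_of_isPrime (haq.trans hqp)
    obtain ⟨m, hm⟩ := ENat.ne_top_iff_exists.1 (Ideal.height_ne_top_of_isPrime (I := q.map (Ideal.Quotient.mk a)))
    have hJ : (a ⊔ Ideal.span {z}).IsHomogeneous 𝒜 :=
      hah.sup (Ideal.homogeneous_span 𝒜 _ fun x hx => ⟨g, by rwa [Set.mem_singleton_iff.1 hx]⟩)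
    have hJp : a ⊔ Ideal.span {z} ≤ p := sup_le (haq.trans hqp) (by simpa using hqp hzq)
    have key : ∀ l : LTSeries (PrimeSpectrum R), a ⊔ Ideal.span {z} ≤ l.head.asIdeal → l.last.asIdeal ≤ p →
        l.length + 1 ≤ m + n := by
      intro l hh hl
      obtain ⟨b, hb, hbh⟩ := Ideal.exists_minimalPrimes_le hh
      haveI := hb.1.1
      have hbhom := isHomogeneous_minimalPrime hJ hb
      have hbp : b ≤ p := hbh.trans (le_trans ((PrimeSpectrum.asIdeal_le_asIdeal _ _).2 (LTSeries.head_le_last l)) hl)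
      have hbq : b ≤ q := hq ▸ le_core hbhom hbp
      have hab : a < b := lt_of_le_of_ne (le_sup_left.trans hb.1.2) fun e =>
        hza (e ▸ hb.1.2 (Ideal.mem_sup_right (Ideal.mem_span_singleton_self z)))
      have h1 := (length_le_height_map b p hbp l hbh hl).trans (ih b hab inferInstance hbhom hbq)
      have h2 : (q.map (Ideal.Quotient.mk b)).height + 1 ≤ (m : ℕ∞) := by
        rw [hm]
        refine le_trans ?_ (height_add_height_le hab.le hbq)
        rw [add_comm]
        gcongr
        refine le_trans (le_of_eq (by simp)) (length_le_height_map a b hab.le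
          ((RelSeries.singleton _ (⟨b, inferInstance⟩ : PrimeSpectrum R)).cons ⟨a, ha⟩ hab) ?_ ?_)
        · simp
        · simp
      have h3 : ((l.length + 1 : ℕ) : ℕ∞) ≤ ((m + n : ℕ) : ℕ∞) := by
        push_cast
        calc (l.length : ℕ∞) + 1 ≤ (q.map (Ideal.Quotient.mk b)).height + n + 1 := by gcongr
          _ = (q.map (Ideal.Quotient.mk b)).height + 1 + n := add_right_comm _ _ _
          _ ≤ m + n := by gcongr
      exact_mod_cast h3
    rw [← hm]
    refine le_trans (Ideal.height_le_height_add_one_of_mem (r := Ideal.Quotient.mk a z)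
      (Ideal.mem_map_of_mem _ (hqp hzq))) ?_
    obtain ⟨k, hk⟩ : ∃ k, m + n = k + 1 := by
      have := key (RelSeries.singleton _ ⟨p, inferInstance⟩) hJp le_rfl
      exact ⟨m + n - 1, by omega⟩
    rw [← Nat.cast_add, hk, Nat.cast_add, Nat.cast_one]
    gcongr
    refine height_map_le _ _ (by simpa using Ideal.mem_map_of_mem (Ideal.Quotient.mk a) (hqp hzq)) _ fun l hh hl => ?_
    have hcomap : ∀ P : PrimeSpectrum (R ⧸ a), a ≤ (PrimeSpectrum.comap (Ideal.Quotient.mk a) P).asIdeal :=
      fun P r hr => by simp [Ideal.Quotient.eq_zero_iff_mem.2 hr]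
    have hsm : StrictMono (PrimeSpectrum.comap (Ideal.Quotient.mk a)) :=
      Monotone.strictMono_of_injective (fun _ _ h => Ideal.comap_mono h)
        (PrimeSpectrum.comap_injective_of_surjective _ Ideal.Quotient.mk_surjective)
    have := key (l.map _ hsm) (by
      rw [LTSeries.head_map]
      refine sup_le (hcomap _) ?_
      simpa using hh (Ideal.mem_span_singleton_self _)) (by
      rw [LTSeries.last_map]
      refine le_trans (Ideal.comap_mono hl) ?_
      rw [Ideal.comap_map_of_surjective _ Ideal.Quotient.mk_surjective, ← RingHom.ker_eq_comap_bot, Ideal.mk_ker,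
        sup_eq_left.2 (haq.trans hqp)])
    have : l.length ≤ k := by
      change l.length + 1 ≤ m + n at this
      omega
    exact_mod_cast this

/-- The height of `p / I` for a homogeneous ideal `I`. -/
theorem height_map_eq_add (p : Ideal R) [p.IsPrime] {q : Ideal R} [q.IsPrime]
    (hq : q = (p.homogeneousCore 𝒜).toIdeal) (n : ℕ) (hn : (p.map (Ideal.Quotient.mk q)).height = n)
    {I : Ideal R} (hI : I.IsHomogeneous 𝒜) (hIq : I ≤ q) :
    (p.map (Ideal.Quotient.mk I)).height = (q.map (Ideal.Quotient.mk I)).height + n := by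
  have hqp : q ≤ p := hq ▸ Ideal.toIdeal_homogeneousCore_le 𝒜 p
  refine le_antisymm (height_map_le _ _ (hIq.trans hqp) _ fun l hh hl => ?_) ?_
  · obtain ⟨b, hb, hbh⟩ := Ideal.exists_minimalPrimes_le hh
    haveI := hb.1.1
    have hbhom := isHomogeneous_minimalPrime hI hb
    have hbp : b ≤ p := hbh.trans (le_trans ((PrimeSpectrum.asIdeal_le_asIdeal _ _).2 (LTSeries.head_le_last l)) hl)
    have hbq : b ≤ q := hq ▸ le_core hbhom hbp
    refine (length_le_height_map b p hbp l hbh hl).trans ((height_map_le_add p hq n hn b inferInstance hbhom hbq).trans ?_)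
    gcongr
    exact height_map_le _ _ hbq _ fun s hs hsl => length_le_height_map I q hIq s (hb.1.2.trans hs) hsl
  · rw [← hn]
    exact height_add_height_le hIq hqp

/-- The annihilator of a graded module is homogeneous. -/
theorem isHomogeneous_annihilator {M : Type u} [AddCommGroup M] [Module R M] (ℳ : ι → AddSubgroup M)
    [Decomposition ℳ] [SetLike.GradedSMul 𝒜 ℳ] : (Module.annihilator R M).IsHomogeneous 𝒜 := fun g r hr => by
  rw [Module.mem_annihilator] at hr ⊢
  intro x
  induction x using GrothLib.GrLC.gr_induction ℳ with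
  | h0 => exact smul_zero _
  | hh h y hy =>
    change cmp 𝒜 g r • y = 0
    have h1 := GrothLib.GrLC.cmp_smul_mem (𝒜 := 𝒜) ℳ r hy (g + h)
    rw [add_sub_cancel_right, hr y, map_zero] at h1
    exact h1.symm
  | hadd y z hy hz => rw [smul_add, hy, hz, add_zero]

end GrothLib.GrBass
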