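import Groth.Agent.Lib.GrBass.Rank
import Groth.Agent.Lib.RegLoc.Basic
import Groth.Agent.Lib.RegularIdeal
import Mathlib.RingTheory.RegularLocalRing.Polynomial
import Mathlib.RingTheory.Ideal.Height
import Mathlib.LinearAlgebra.FreeModule.PID

/-!
# The fibre over a graded prime is regular
-/

universe u

open DirectSum

namespace GrothLib.GrBass

open GrothLib.GrLC (cmp cmp_mem cmp_of_mem gr_induction exists_sum_cmp)

noncomputable section

variable {ι : Type} [AddCommGroup ι] [DecidableEq ι] {R : Type u} [CommRing R] {σ : Type u} [SetLike σ R]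
  [AddSubgroupClass σ R] {𝒜 : ι → σ} [GradedRing 𝒜] {q : HomogeneousIdeal 𝒜}
  {P : Ideal R} [P.IsPrime] (hP : Over q P) (hq : q.toIdeal.IsPrime)

local notation "A" => Localization P.primeCompl
local notation "J" => Ideal.map (algebraMap R (Localization P.primeCompl)) (HomogeneousIdeal.toIdeal q)

variable (q P) in
/-- The map to the fibre. -/
abbrev toFib : R →+* (A ⧸ J) := (Ideal.Quotient.mk J).comp (algebraMap R A)

include hP hq in
theorem toFib_eq_zero_iff {r : R} : toFib q P r = 0 ↔ r ∈ q.toIdeal := by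
  rw [RingHom.comp_apply, Ideal.Quotient.eq_zero_iff_mem,
    IsLocalization.algebraMap_mem_map_algebraMap_iff P.primeCompl]
  exact ⟨fun ⟨t, ht, htr⟩ => (hq.mem_or_mem htr).resolve_left fun h => ht (hP.le h),
    fun h => ⟨1, one_mem _, by rwa [one_mul]⟩⟩

theorem toFib_isUnit {t : R} (ht : t ∉ P) : IsUnit (toFib q P t) :=
  (IsLocalization.map_units A (⟨t, ht⟩ : P.primeCompl)).map (Ideal.Quotient.mk J)

include hP hq in
theorem fib_isLocalization :
    letI := (Ideal.Quotient.lift q.toIdeal (toFib q P) fun r hr => (toFib_eq_zero_iff hP hq).2 hr).toAlgebra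
    IsLocalization (Submonoid.map (Ideal.Quotient.mk q.toIdeal) P.primeCompl)
      (A ⧸ J) := by
  letI := (Ideal.Quotient.lift q.toIdeal (toFib q P) fun r hr => (toFib_eq_zero_iff hP hq).2 hr).toAlgebra
  refine (isLocalization_iff _ _).2 ⟨?_, fun z => ?_, fun {x y} hxy => ?_⟩
  · rintro ⟨_, t, ht, rfl⟩
    exact toFib_isUnit ht
  · obtain ⟨z, rfl⟩ := Ideal.Quotient.mk_surjective z
    obtain ⟨⟨a, t⟩, rfl⟩ := IsLocalization.mk'_surjective P.primeCompl z
    refine ⟨(Ideal.Quotient.mk _ a, ⟨_, t.1, t.2, rfl⟩), ?_⟩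
    change Ideal.Quotient.mk J _ * Ideal.Quotient.mk J _ = Ideal.Quotient.mk J _
    rw [← map_mul, IsLocalization.mk'_spec]
  · obtain ⟨x, rfl⟩ := Ideal.Quotient.mk_surjective x
    obtain ⟨y, rfl⟩ := Ideal.Quotient.mk_surjective y
    have hxy' : toFib q P x = toFib q P y := hxy
    refine ⟨1, by rw [Submonoid.coe_one, one_mul, one_mul, Ideal.Quotient.eq]; exact
      (toFib_eq_zero_iff hP hq).1 (by rw [map_sub, hxy', sub_self])⟩

/-- The fibre is local. -/
theorem isLocalRing_fib (hP : Over q P) : IsLocalRing (A ⧸ J) :=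
  GrothLib.RegLoc.isLocalRing_quotient (Ideal.map_le_iff_le_comap.2 fun r hr =>
    (IsLocalization.AtPrime.to_map_mem_maximal_iff A P r).2 (hP.le hr))

include hP hq in
theorem ringKrullDim_fib {d : ℕ} (hd : (P.map (Ideal.Quotient.mk q.toIdeal)).height = d) :
    ringKrullDim (A ⧸ J) = d := by
  letI := (Ideal.Quotient.lift q.toIdeal (toFib q P) fun r hr => (toFib_eq_zero_iff hP hq).2 hr).toAlgebra
  haveI : (P.map (Ideal.Quotient.mk q.toIdeal)).IsPrime :=
    Ideal.map_isPrime_of_surjective Ideal.Quotient.mk_surjective (by rw [Ideal.mk_ker]; exact hP.le)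
  have hM : Submonoid.map (Ideal.Quotient.mk q.toIdeal) P.primeCompl = (P.map (Ideal.Quotient.mk q.toIdeal)).primeCompl := by
    ext z
    obtain ⟨z, rfl⟩ := Ideal.Quotient.mk_surjective z
    have hiff : Ideal.Quotient.mk q.toIdeal z ∈ P.map (Ideal.Quotient.mk q.toIdeal) ↔ z ∈ P := by
      rw [← Ideal.mem_comap, Ideal.comap_map_of_surjective _ Ideal.Quotient.mk_surjective, ← RingHom.ker_eq_comap_bot,
        Ideal.mk_ker, sup_eq_left.2 hP.le]
    constructor
    · rintro ⟨t, ht, e⟩ h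
      refine ht ?_
      have := Ideal.Quotient.eq.1 e
      simpa using P.add_mem (hP.le this) (hiff.1 h)
    · exact fun h => ⟨z, fun hz => h (hiff.2 hz), rfl⟩
  haveI := fib_isLocalization hP hq
  haveI : IsLocalization.AtPrime (A ⧸ J) (P.map (Ideal.Quotient.mk q.toIdeal)) := by
    unfold IsLocalization.AtPrime
    rw [← hM]
    infer_instance
  rw [IsLocalization.AtPrime.ringKrullDim_eq_height (P.map (Ideal.Quotient.mk q.toIdeal)) (A ⧸ J), hd]
  rfl

variable (q P) in
/-- Fractions of degree `g` in the fibre. -/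
def Frac (g : ι) (x : A ⧸ J) : Prop :=
  ∃ (j : ι) (a s : R), a ∈ 𝒜 (g + j) ∧ s ∈ 𝒜 j ∧ s ∉ q.toIdeal ∧ x * toFib q P s = toFib q P a

theorem frac_toFib {g : ι} {a : R} (ha : a ∈ 𝒜 g) (hq : q.toIdeal.IsPrime) : Frac q P g (toFib q P a) :=
  ⟨0, a, 1, by rwa [add_zero], SetLike.GradedOne.one_mem, fun h => hq.ne_top ((Ideal.eq_top_iff_one _).2 h),
    by rw [map_one, mul_one]⟩

include hq in
theorem frac_mul {g g' : ι} {x y : A ⧸ J} (hx : Frac q P g x) (hy : Frac q P g' y) : Frac q P (g + g') (x * y) := by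
  obtain ⟨j, a, s, ha, hs, hsq, hx⟩ := hx
  obtain ⟨j', a', s', ha', hs', hs'q, hy⟩ := hy
  refine ⟨j + j', a * a', s * s', ?_, SetLike.mul_mem_graded hs hs', fun h => (hq.mem_or_mem h).elim hsq hs'q, ?_⟩
  · rw [add_add_add_comm]; exact SetLike.mul_mem_graded ha ha'
  · rw [map_mul, map_mul, ← hx, ← hy]; ring

include hP in
theorem frac_inv {g : ι} {x : (A ⧸ J)ˣ} (hx : Frac q P g (x : A ⧸ J)) (hq : q.toIdeal.IsPrime) :
    Frac q P (-g) ((x⁻¹ : (A ⧸ J)ˣ) : A ⧸ J) := by
  haveI := isLocalRing_fib hP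
  obtain ⟨j, a, s, ha, hs, hsq, hx⟩ := hx
  have haq : a ∉ q.toIdeal := fun h => by
    rw [(toFib_eq_zero_iff hP hq).2 h] at hx
    exact hsq ((toFib_eq_zero_iff hP hq).1 (x.isUnit.mul_right_eq_zero.1 hx))
  refine ⟨g + j, s, a, ?_, ha, haq, ?_⟩
  · rwa [neg_add_cancel_left]
  · rw [← hx, Units.inv_mul_cancel_left]

include hP hq in
/-- Fractions of distinct degrees are independent. -/
theorem frac_indep {α : Type*} (T : Finset α) (deg : α → ι) (hdeg : Set.InjOn deg T) (x : α → A ⧸ J)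
    (hx : ∀ t ∈ T, Frac q P (deg t) (x t)) (hsum : ∑ t ∈ T, x t = 0) : ∀ t ∈ T, x t = 0 := by
  classical
  choose! j a s ha hs hsq hxs using hx
  intro t₀ ht₀
  have h1 : (∑ t ∈ T, a t * ∏ t' ∈ T.erase t, s t') ∈ q.toIdeal := by
    rw [← toFib_eq_zero_iff hP hq, map_sum]
    have : ∀ t ∈ T, toFib q P (a t * ∏ t' ∈ T.erase t, s t') = x t * toFib q P (∏ t' ∈ T, s t') := fun t ht => by
      rw [map_mul, ← hxs t ht, mul_assoc, ← map_mul, Finset.mul_prod_erase T s ht]
    rw [Finset.sum_congr rfl this, ← Finset.sum_mul, hsum, zero_mul]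
  have hmem : ∀ t ∈ T, a t * ∏ t' ∈ T.erase t, s t' ∈ 𝒜 (deg t + ∑ t' ∈ T, j t') := fun t ht => by
    rw [← Finset.add_sum_erase T j ht, ← add_assoc]
    exact SetLike.mul_mem_graded (ha t ht) (SetLike.prod_mem_graded 𝒜 j s fun t' ht' => hs t' (Finset.mem_of_mem_erase ht'))
  have h2 := q.isHomogeneous (deg t₀ + ∑ t' ∈ T, j t') h1
  change cmp 𝒜 _ _ ∈ q.toIdeal at h2
  rw [map_sum, Finset.sum_eq_single t₀ (fun t ht hne => GrothLib.GrLC.cmp_of_mem_ne 𝒜 (hmem t ht) fun e =>
    hne (hdeg ht ht₀ (add_right_cancel e))) (fun h => absurd ht₀ h), cmp_of_mem 𝒜 (hmem t₀ ht₀)] at h2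
  have h3 : a t₀ ∈ q.toIdeal := (hq.mem_or_mem h2).resolve_right fun h => by
    obtain ⟨t', ht', h'⟩ := (hq.prod_mem_iff).1 h
    exact hsq t' (Finset.mem_of_mem_erase ht') h'
  have h4 := hxs t₀ ht₀
  rw [(toFib_eq_zero_iff hP hq).2 h3] at h4
  exact (toFib_isUnit (hP.hom _ _ (hs t₀ ht₀) (hsq t₀ ht₀))).mul_left_eq_zero.1 h4

variable (q) in
/-- The degrees of the units of the fibre. -/
def degGroup (hq : q.toIdeal.IsPrime) : AddSubgroup ι where
  carrier := {g | ∃ (j : ι) (a s : R), a ∈ 𝒜 (g + j) ∧ s ∈ 𝒜 j ∧ a ∉ q.toIdeal ∧ s ∉ q.toIdeal}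
  zero_mem' := ⟨0, 1, 1, by rw [add_zero]; exact SetLike.GradedOne.one_mem, SetLike.GradedOne.one_mem,
    fun h => hq.ne_top ((Ideal.eq_top_iff_one _).2 h), fun h => hq.ne_top ((Ideal.eq_top_iff_one _).2 h)⟩
  add_mem' := by
    rintro g g' ⟨j, a, s, ha, hs, haq, hsq⟩ ⟨j', a', s', ha', hs', ha'q, hs'q⟩
    exact ⟨j + j', a * a', s * s', by rw [add_add_add_comm]; exact SetLike.mul_mem_graded ha ha',
      SetLike.mul_mem_graded hs hs', fun h => (hq.mem_or_mem h).elim haq ha'q, fun h => (hq.mem_or_mem h).elim hsq hs'q⟩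
  neg_mem' := by
    rintro g ⟨j, a, s, ha, hs, haq, hsq⟩
    exact ⟨g + j, s, a, by rwa [neg_add_cancel_left], ha, hsq, haq⟩

include hP hq in
theorem exists_unit_of_mem {g : ι} (hg : g ∈ degGroup q hq) : ∃ x : (A ⧸ J)ˣ, Frac q P g (x : A ⧸ J) := by
  obtain ⟨j, a, s, ha, hs, haq, hsq⟩ := hg
  obtain ⟨ua, hua⟩ := toFib_isUnit (q := q) (hP.hom _ _ ha haq)
  obtain ⟨us, hus⟩ := toFib_isUnit (q := q) (hP.hom _ _ hs hsq)
  exact ⟨ua * us⁻¹, j, a, s, ha, hs, hsq, by rw [← hua, ← hus, Units.val_mul, Units.inv_mul_cancel_right]⟩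

variable [IsNoetherianRing R] [Module.Free ℤ ι] [Module.Finite ℤ ι]

include hP hq in
/-- The fibre over a graded prime is a regular local ring. -/
theorem isRegularLocalRing_fib : IsRegularLocalRing (A ⧸ J) := by
  classical
  haveI := isLocalRing_fib hP
  let H : Submodule ℤ ι := AddSubgroup.toIntSubmodule (degGroup q hq)
  obtain ⟨r, ⟨b⟩⟩ := H.nonempty_basis_of_pid (Module.Free.chooseBasis ℤ ι)
  have hb : ∀ i, (b i : ι) ∈ degGroup q hq := fun i => (b i).2
  choose u hu using fun i => exists_unit_of_mem hP hq (hb i)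
  let K0 : Subring (A ⧸ J) :=
    { carrier := {x | Frac q P 0 x}
      mul_mem' := fun {x y} hx hy => by simpa using frac_mul hq hx hy
      one_mem' := by simpa using frac_toFib (P := P) (g := (0 : ι)) (a := 1) SetLike.GradedOne.one_mem hq
      zero_mem' := by simpa using frac_toFib (P := P) (g := (0 : ι)) (a := 0) (zero_mem (𝒜 0)) hq
      add_mem' := by
        rintro x y ⟨j, a, s, ha, hs, hsq, hx⟩ ⟨j', a', s', ha', hs', hs'q, hy⟩
        rw [zero_add] at ha ha'
        refine ⟨j + j', a * s' + s * a', s * s', ?_, SetLike.mul_mem_graded hs hs',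
          fun h => (hq.mem_or_mem h).elim hsq hs'q, ?_⟩
        · rw [zero_add]; exact add_mem (SetLike.mul_mem_graded ha hs') (SetLike.mul_mem_graded hs ha')
        · rw [map_add, map_mul, map_mul, map_mul, ← hx, ← hy]; ring
      neg_mem' := by
        rintro x ⟨j, a, s, ha, hs, hsq, hx⟩
        exact ⟨j, -a, s, neg_mem ha, hs, hsq, by rw [map_neg]; linear_combination -hx⟩ }
  have hfield : IsField K0 := by
    refine ⟨⟨0, 1, fun h => zero_ne_one (congrArg Subtype.val h)⟩, mul_comm, fun {x} hx => ?_⟩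
    obtain ⟨j, a, s, ha, hs, hsq, hxs⟩ := x.2
    have haq : a ∉ q.toIdeal := fun h => by
      rw [(toFib_eq_zero_iff hP hq).2 h] at hxs
      exact hx (Subtype.ext ((toFib_isUnit (hP.hom _ _ hs hsq)).mul_left_eq_zero.1 hxs))
    obtain ⟨ua, hua⟩ := toFib_isUnit (q := q) (hP.hom _ _ ha haq)
    refine ⟨⟨(↑ua⁻¹ : A ⧸ J) * toFib q P s, j, s, a, by rwa [zero_add], by rwa [zero_add] at ha, haq,
      by rw [← hua, mul_comm, ← mul_assoc, Units.mul_inv, one_mul]⟩, Subtype.ext ?_⟩
    change (x : A ⧸ J) * ((↑ua⁻¹ : A ⧸ J) * toFib q P s) = 1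
    rw [mul_left_comm, hxs, ← hua, Units.inv_mul]
  letI := hfield.toField
  let ψ : MvPolynomial (Fin r) K0 →ₐ[K0] A ⧸ J := MvPolynomial.aeval fun i => (u i : A ⧸ J)
  have hpow : ∀ n : Fin r → ℤ, Frac q P ((∑ i, n i • b i : H) : ι) ((∏ i, u i ^ n i : (A ⧸ J)ˣ) : A ⧸ J) := by
    have h1 : ∀ (i : Fin r) (m : ℤ), Frac q P (m • (b i : ι)) ((u i ^ m : (A ⧸ J)ˣ) : A ⧸ J) := by
      intro i m
      have hnat : ∀ k : ℕ, Frac q P ((k : ℤ) • (b i : ι)) ((u i ^ (k : ℤ) : (A ⧸ J)ˣ) : A ⧸ J) := by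
        intro k
        induction k with
        | zero =>
          rw [Nat.cast_zero, zero_smul, zpow_zero]
          exact K0.one_mem
        | succ k ih =>
          rw [Nat.cast_succ, add_smul, one_smul, zpow_add_one, Units.val_mul]
          exact frac_mul hq ih (hu i)
      obtain ⟨k, rfl | rfl⟩ := Int.eq_nat_or_neg m
      · exact hnat k
      · rw [neg_smul, zpow_neg]
        exact frac_inv hP (hnat k) hq
    intro n
    rw [Submodule.coe_sum]
    induction (Finset.univ : Finset (Fin r)) using Finset.induction_on with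
    | empty => rw [Finset.sum_empty, Finset.prod_empty]; exact K0.one_mem
    | insert i T hi ih =>
      rw [Finset.sum_insert hi, Finset.prod_insert hi, Units.val_mul]
      exact frac_mul hq (h1 i (n i)) ih
  have hψmono : ∀ (e : Fin r →₀ ℕ) (c : K0),
      ψ (MvPolynomial.monomial e c) = (c : A ⧸ J) * ((∏ i, u i ^ (e i : ℤ) : (A ⧸ J)ˣ) : A ⧸ J) := fun e c => by
    simp only [ψ, MvPolynomial.aeval_monomial, zpow_natCast, Units.coe_prod, Units.val_pow_eq_pow_val]
    congr 1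
    exact e.prod_fintype _ fun i => pow_zero _
  have hinj : Function.Injective ψ := by
    refine (injective_iff_map_eq_zero ψ).2 fun f hf => MvPolynomial.ext _ _ fun e => ?_
    rw [MvPolynomial.coeff_zero]
    by_contra he
    rw [MvPolynomial.as_sum f, map_sum] at hf
    have h := frac_indep hP hq f.support (fun e => ((∑ i, (e i : ℤ) • b i : H) : ι))
      (fun e _ e' _ h => Finsupp.ext fun i => by
        have h' := DFunLike.congr_fun (congrArg b.repr (Subtype.ext h : ∑ i, (e i : ℤ) • b i = ∑ i, (e' i : ℤ) • b i)) i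
        rw [b.repr_sum_self, b.repr_sum_self] at h'
        exact_mod_cast h')
      (fun e => ψ (MvPolynomial.monomial e (f.coeff e)))
      (fun e _ => by
        rw [hψmono]
        simpa using frac_mul hq (f.coeff e).2 (hpow fun i => (e i : ℤ)))
      hf e (MvPolynomial.mem_support_iff.2 he)
    rw [hψmono, Units.mul_left_eq_zero] at h
    exact he (Subtype.ext h)
  let U : A ⧸ J := ((∏ i, u i : (A ⧸ J)ˣ) : A ⧸ J)
  have hU : IsUnit U := Units.isUnit _
  have hcomp : ∀ (g : ι) (a : R), a ∈ 𝒜 g → ∃ N : ℕ, ∀ M, N ≤ M → ∃ f, ψ f = toFib q P a * U ^ M := by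
    intro g a ha
    by_cases haq : a ∈ q.toIdeal
    · exact ⟨0, fun M _ => ⟨0, by rw [map_zero, (toFib_eq_zero_iff hP hq).2 haq, zero_mul]⟩⟩
    have hg : g ∈ degGroup q hq := ⟨0, a, 1, by rwa [add_zero], SetLike.GradedOne.one_mem, haq,
      fun h => hq.ne_top ((Ideal.eq_top_iff_one _).2 h)⟩
    let n : Fin r → ℤ := fun i => b.repr ⟨g, hg⟩ i
    have hn : ((∑ i, n i • b i : H) : ι) = g := congrArg Subtype.val (b.sum_repr ⟨g, hg⟩)
    refine ⟨(∑ i, |n i|).toNat, fun M hM => ?_⟩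
    let w : (A ⧸ J)ˣ := ∏ i, u i ^ n i
    have hw : Frac q P g (w : A ⧸ J) := hn ▸ hpow n
    have hc : Frac q P 0 (toFib q P a * ((w⁻¹ : (A ⧸ J)ˣ) : A ⧸ J)) := by
      simpa using frac_mul hq (frac_toFib (P := P) ha hq) (frac_inv hP hw hq)
    let e : Fin r →₀ ℕ := Finsupp.equivFunOnFinite.symm fun i => (n i + M).toNat
    refine ⟨MvPolynomial.monomial e ⟨_, hc⟩, ?_⟩
    rw [hψmono]
    have he : ∀ i, (e i : ℤ) = n i + M := fun i => by
      have h1 : |n i| ≤ ∑ i, |n i| := Finset.single_le_sum (fun i _ => abs_nonneg (n i)) (Finset.mem_univ i)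
      have h2 : (∑ i, |n i|) ≤ ((∑ i, |n i|).toNat : ℤ) := Int.self_le_toNat _
      change (((n i + M).toNat : ℕ) : ℤ) = _
      rw [Int.toNat_of_nonneg]
      have := neg_abs_le (n i)
      omega
    simp only [he, zpow_add, Finset.prod_mul_distrib, zpow_natCast, Finset.prod_pow, Units.val_mul, Units.val_pow_eq_pow_val]
    change toFib q P a * ↑w⁻¹ * (↑w * U ^ M) = _
    rw [mul_assoc, Units.inv_mul_cancel_left]
  have hall : ∀ a : R, ∃ N : ℕ, ∀ M, N ≤ M → ∃ f, ψ f = toFib q P a * U ^ M := by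
    intro a
    induction a using gr_induction 𝒜 with
    | h0 => exact ⟨0, fun M _ => ⟨0, by rw [map_zero, map_zero, zero_mul]⟩⟩
    | hadd a c ha hc =>
      obtain ⟨N, hN⟩ := ha
      obtain ⟨N', hN'⟩ := hc
      refine ⟨max N N', fun M hM => ?_⟩
      obtain ⟨f, hf⟩ := hN M (le_trans (le_max_left _ _) hM)
      obtain ⟨f', hf'⟩ := hN' M (le_trans (le_max_right _ _) hM)
      exact ⟨f + f', by rw [map_add, map_add, hf, hf', add_mul]⟩
    | hh g a ha => exact hcomp g a ha
  let Q : Ideal (MvPolynomial (Fin r) K0) := (IsLocalRing.maximalIdeal (A ⧸ J)).comap ψ.toRingHom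
  haveI : Q.IsPrime := Ideal.IsPrime.comap _
  letI := ψ.toRingHom.toAlgebra
  haveI : IsLocalization.AtPrime (A ⧸ J) Q := by
    refine (isLocalization_iff _ _).2 ⟨fun y => not_not.1 fun h => y.2 h, fun z => ?_, fun {x y} h => ⟨1, ?_⟩⟩
    · obtain ⟨z, rfl⟩ := Ideal.Quotient.mk_surjective z
      obtain ⟨⟨a, t⟩, rfl⟩ := IsLocalization.mk'_surjective P.primeCompl z
      obtain ⟨N, hN⟩ := hall a
      obtain ⟨N', hN'⟩ := hall t
      obtain ⟨f, hf⟩ := hN _ (le_max_left N N')
      obtain ⟨f', hf'⟩ := hN' _ (le_max_right N N')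
      refine ⟨(f, ⟨f', fun h => ?_⟩), ?_⟩
      · change ψ f' ∈ IsLocalRing.maximalIdeal _ at h
        rw [hf'] at h
        exact h ((toFib_isUnit t.2).mul (hU.pow _))
      · change Ideal.Quotient.mk J _ * ψ f' = ψ f
        rw [hf, hf', ← mul_assoc]
        congr 1
        change Ideal.Quotient.mk J _ * Ideal.Quotient.mk J _ = Ideal.Quotient.mk J _
        rw [← map_mul, IsLocalization.mk'_spec]
    · rw [hinj h]
  haveI := IsRegularRing.isRegularLocalRing_localization (R := MvPolynomial (Fin r) K0) Q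
  exact IsRegularLocalRing.of_ringEquiv (R := Localization.AtPrime Q) (IsLocalization.algEquiv Q.primeCompl (Localization.AtPrime Q) (A ⧸ J)).toRingEquiv

include hP hq in
/-- A regular sequence cutting the maximal ideal out of the fibre. -/
theorem exists_regular_fib {d : ℕ} (hd : (P.map (Ideal.Quotient.mk q.toIdeal)).height = d) :
    ∃ rs : List A, rs.length = d ∧ RingTheory.Sequence.IsWeaklyRegular (A ⧸ J) rs ∧
      J ⊔ Ideal.ofList rs = IsLocalRing.maximalIdeal A := by
  haveI := isRegularLocalRing_fib hP hq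
  have hdim := ringKrullDim_fib hP hq hd
  have hs : (IsLocalRing.maximalIdeal (A ⧸ J)).spanFinrank = d := by
    rw [← IsRegularLocalRing.spanFinrank_maximalIdeal] at hdim
    exact_mod_cast hdim
  obtain ⟨T, hTcard, hT⟩ : ∃ T : Fin d → A ⧸ J, True ∧ Ideal.span (Set.range T) = IsLocalRing.maximalIdeal (A ⧸ J) := by
    have hfg : (IsLocalRing.maximalIdeal (A ⧸ J)).FG := IsNoetherian.noetherian _
    have hfin := Submodule.FG.finite_generators hfg
    haveI := hfin.fintype
    have hc : Fintype.card (Submodule.generators (IsLocalRing.maximalIdeal (A ⧸ J))) = d := by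
      rw [← Nat.card_eq_fintype_card, Nat.card_coe_set_eq, Submodule.FG.generators_ncard hfg, hs]
    refine ⟨fun i => ((Fintype.equivFinOfCardEq hc).symm i).1, trivial, ?_⟩
    rw [show Set.range (fun i => ((Fintype.equivFinOfCardEq hc).symm i).1) =
      Submodule.generators (IsLocalRing.maximalIdeal (A ⧸ J)) from by
        ext z
        exact ⟨fun ⟨i, hi⟩ => hi ▸ ((Fintype.equivFinOfCardEq hc).symm i).2,
          fun hz => ⟨Fintype.equivFinOfCardEq hc ⟨z, hz⟩, by simp⟩⟩]
    exact Submodule.span_generators _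
  choose x hx using fun i => Ideal.Quotient.mk_surjective (T i)
  refine ⟨List.ofFn x, List.length_ofFn, ?_, ?_⟩
  · have h := GrothLib.RegLoc.isWeaklyRegular_ofFn d (A ⧸ J) hs T hT
    rw [show List.ofFn T = (List.ofFn x).map (Ideal.Quotient.mk J) from by
      rw [List.map_ofFn]; exact congrArg List.ofFn (funext fun i => (hx i).symm)] at h
    exact GrothLib.RegularIdeal.isWeaklyRegular_map_mk _ |>.1 h
  · have h := congrArg (Ideal.comap (Ideal.Quotient.mk J)) hT
    rw [show Set.range T = Ideal.Quotient.mk J '' Set.range x from by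
      rw [← Set.range_comp]; exact congrArg Set.range (funext fun i => (hx i).symm), ← Ideal.map_span,
      Ideal.comap_map_of_surjective _ Ideal.Quotient.mk_surjective, ← RingHom.ker_eq_comap_bot, Ideal.mk_ker] at h
    rw [Ideal.ofList, show {a | a ∈ List.ofFn x} = Set.range x from by ext; simp [List.mem_ofFn], sup_comm, h]
    haveI : (Ideal.comap (Ideal.Quotient.mk J) (IsLocalRing.maximalIdeal (A ⧸ J))).IsMaximal :=
      Ideal.comap_isMaximal_of_surjective _ Ideal.Quotient.mk_surjective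
    exact IsLocalRing.eq_maximalIdeal inferInstance

end

end GrothLib.GrBass
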