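import Groth.Agent.Lib.GrBass.Local
import Groth.Agent.Lib.GrBass.GorTop
import Groth.Agent.Lib.GrLC.CoreHeight
import Groth.Agent.Lib.Gor.Quotient

/-!
# A *local ring is Gorenstein if it is Gorenstein at the *maximal ideal
-/

universe u

open CategoryTheory CategoryTheory.Abelian IsLocalRing

namespace GrothLib.GrBass

open _root_.GrLC (GMod bassNum IsStarLocal)
open GrothLib.GrLC.ExtLoc (ExtKilled)

noncomputable section

section Local

variable {A : Type u} [CommRing A] [LocCoh.IsCohenMacaulayLocalRing A]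

theorem subsingleton_H_of_cm {d : ℕ} (hd : ringKrullDim A = d) {i : ℕ} (hi : i ≠ d) :
    Subsingleton ((localCohomology (maximalIdeal A) i).obj (ModuleCat.of A A)) := by
  have h : LocCoh.depth A A = d := by
    have h := LocCoh.IsCohenMacaulayLocalRing.supportDim_eq_depth (R := A)
    rw [Module.supportDim_self_eq_ringKrullDim, hd] at h
    exact WithBot.coe_inj.1 h.symm
  rcases lt_or_gt_of_ne hi with hlt | hgt
  · exact (GrothLib.Depth.le_idealDepth_iff_H (maximalIdeal A) d).1 h.ge i hlt
  · refine GrothLib.LC.subsingleton_of_supportDim_lt i A (maximalIdeal A) A ?_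
    rw [Module.supportDim_self_eq_ringKrullDim, hd]
    exact_mod_cast hgt

end Local

variable {R : Type u} [CommRing R] [IsNoetherianRing R]

/-- Bass numbers of the ring below a Gorenstein prime vanish in high degrees. -/
theorem bassNum_eq_zero_below {Q P : Ideal R} [Q.IsPrime] [P.IsPrime] (hPQ : P ≤ Q) {N : ℕ}
    (hN : HasInjectiveDimensionLT (ModuleCat.of (Localization.AtPrime Q) (Localization.AtPrime Q)) N) {i : ℕ}
    (hi : N ≤ i) : bassNum P R i = 0 := by
  rw [bassNum_eq_zero_iff]
  haveI := hasInjectiveDimensionLT_of_iso (GrothLib.Gor.localizedModuleSelfIso Q.primeCompl).symm N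
  have h := (GrothLib.GrLC.ExtLoc.subsingleton_ext_localized_iff (S := Q.primeCompl) (Y := ModuleCat.of R R) i
    (ModuleCat.of R (R ⧸ P))).1 (HasInjectiveDimensionLT.subsingleton _ N i hi _)
  exact h.mono (fun s (hs : s ∉ Q) (hsP : s ∈ P) => hs (hPQ hsP))

/-- Vanishing of high Bass numbers makes a localisation Gorenstein. -/
theorem isGorensteinLocalRing_of_bassNum (P : Ideal R) [P.IsPrime] {N : ℕ}
    (h : ∀ i, N ≤ i → bassNum P R i = 0) : LocCoh.IsGorensteinLocalRing (Localization.AtPrime P) := by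
  let A := Localization.AtPrime P
  haveI : IsNoetherianRing A := IsLocalization.isNoetherianRing P.primeCompl A inferInstance
  refine { exists_hasInjectiveDimensionLT := ⟨N + 1, GrothLib.Gor.hasInjectiveDimensionLT_of_residue
    (ModuleCat.of A A) fun i hi => ?_⟩ }
  have h0 := h i (by omega)
  obtain ⟨eY⟩ := nonempty_iso_localized P R
  have h1 : Subsingleton (Ext (ModuleCat.of A (ResidueField A)) (ModuleCat.of A (LocalizedModule P.primeCompl R)) i) :=
    Module.length_eq_zero_iff.1 h0
  exact (extTargetEquiv (ModuleCat.of A (ResidueField A))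
    (eY.symm ≪≫ GrothLib.Gor.localizedModuleSelfIso P.primeCompl) i).toEquiv.subsingleton_congr.1 h1

variable {σ : Type u} [SetLike σ R] [AddSubgroupClass σ R] {𝒜 : ℤ → σ} [GradedRing 𝒜] {m : HomogeneousIdeal 𝒜}
  [m.toIdeal.IsPrime]

/-- Gorenstein at the *maximal ideal suffices. -/
theorem isGorensteinRing_of_starMaximal (hm : IsStarLocal 𝒜 m)
    (h : LocCoh.IsGorensteinLocalRing (Localization.AtPrime m.toIdeal)) : LocCoh.IsGorensteinRing R := by
  obtain ⟨N, hN⟩ := h.exists_hasInjectiveDimensionLT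
  refine { isGorensteinLocalRing_localization := fun P hP => ?_ }
  haveI := isPrime_homogeneousCore (𝒜 := 𝒜) P
  have hqm : (P.homogeneousCore 𝒜).toIdeal ≤ m.toIdeal :=
    GrothLib.GrLC.le_of_isStarLocal hm fun h => (inferInstance : (P.homogeneousCore 𝒜).toIdeal.IsPrime).ne_top (by
      rw [h, HomogeneousIdeal.toIdeal_top])
  haveI := Ideal.isPrime_map_quotientMk_of_isPrime (Ideal.toIdeal_homogeneousCore_le 𝒜 P)
  obtain ⟨d, hd⟩ := ENat.ne_top_iff_exists.1
    (Ideal.height_ne_top_of_isPrime (I := P.map (Ideal.Quotient.mk (P.homogeneousCore 𝒜).toIdeal)))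
  obtain ⟨-, h2⟩ := bassNum_shift (q := P.homogeneousCore 𝒜) (GrothLib.GrLC.gmod 𝒜 𝒜) P (over_core P) hd.symm
  exact isGorensteinLocalRing_of_bassNum P (N := N + d) fun i hi =>
    (h2 i (by omega)).trans (bassNum_eq_zero_below hqm hN (by omega))

/-- The criterion at the *maximal ideal. -/
theorem isGorensteinLocalRing_of_starInj [LocCoh.IsCohenMacaulayRing R] {n : ℕ} (hn : m.toIdeal.height = n)
    {X : GMod.{u} 𝒜} (hX : _root_.GrLC.IsStarInj 𝒜 X.gr) (ψ : X.carrier ≃ₗ[R] LocCoh.H m.toIdeal n R) :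
    LocCoh.IsGorensteinLocalRing (Localization.AtPrime m.toIdeal) := by
  let A := Localization.AtPrime m.toIdeal
  haveI := LocCoh.IsCohenMacaulayRing.isCohenMacaulayLocalRing_localization (R := R) m.toIdeal
  have hgam : _root_.GrLC.gam m.toIdeal X.carrier = ⊤ := Submodule.eq_top_iff'.2 fun x => by
    obtain ⟨k, hk⟩ := GrothLib.LC.isPowerTorsion m.toIdeal n (ModuleCat.of R R) (ψ x)
    exact ⟨k, fun a ha => ψ.injective (by rw [map_smul, hk a ha, map_zero])⟩
  have hinj := injective_localized_torsion (m := m) hX hgam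
  obtain ⟨eH⟩ := GorTop.nonempty_H_localized m.toIdeal m.toIdeal
    (by rw [Ideal.minimalPrimes_eq_subsingleton_self]; rfl) n
  let eψ : LocalizedModule m.toIdeal.primeCompl X.carrier ≃ₗ[A]
      LocalizedModule m.toIdeal.primeCompl (LocCoh.H m.toIdeal n R) :=
    (LocalizedModule.equivTensorProduct _ _).trans
      ((ψ.baseChange R A _ _).trans (LocalizedModule.equivTensorProduct _ _).symm)
  have hd : ringKrullDim A = n := by
    rw [IsLocalization.AtPrime.ringKrullDim_eq_height m.toIdeal A, hn]; rfl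
  exact GrothLib.Gor.isGorensteinLocalRing_of_H A n (fun i hi => subsingleton_H_of_cm hd hi)
    (GrothLib.InjMod.injective_of_linearEquiv (eψ.trans eH).symm hinj)

end

end GrothLib.GrBass
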