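import Groth.Agent.Lib.GrLC.Basic
import Mathlib.LinearAlgebra.Finsupp.Pi
import Mathlib.Algebra.Module.Torsion.Basic
import Mathlib.RingTheory.Localization.Integer
import Mathlib.RingTheory.Localization.Ideal
import Mathlib.RingTheory.Ideal.Prod

/-!
# Quasi-bases of graded modules killed by a homogeneous prime
-/

universe u v

namespace GrothLib.GrBass

open GrothLib.GrLC (cmp cmp_mem cmp_of_mem cmp_of_mem_ne gr_induction cmp_smul_mem)
open _root_.GrLC (GMod)

section Graded

variable {ι : Type} [AddCommGroup ι] [DecidableEq ι] {R : Type u} [CommRing R] {σ : Type u} [SetLike σ R]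
  [AddSubgroupClass σ R] {𝒜 : ι → σ} [GradedRing 𝒜]

/-- A family that is independent modulo `q` and generates up to homogeneous multipliers outside `q`. -/
structure IsQBasis (q : Ideal R) (X : GMod.{u} 𝒜) {Λ : Type u} (v : Λ → X.carrier) : Prop where
  indep : ∀ a : Λ →₀ R, Finsupp.linearCombination R v a = 0 → ∀ l, a l ∈ q
  gen : ∀ g, ∀ x ∈ X.gr g, ∃ j, ∃ s ∈ 𝒜 j, s ∉ q ∧ s • x ∈ Submodule.span R (Set.range v)

theorem exists_qBasis {q : Ideal R} (hq : q.IsPrime) (X : GMod.{u} 𝒜) (hkill : ∀ r ∈ q, ∀ x : X.carrier, r • x = 0) :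
    ∃ (Λ : Type u) (v : Λ → X.carrier), IsQBasis q X v := by
  classical
  let Ind : Set X.carrier → Prop := fun B => (∀ b ∈ B, ∃ g, b ∈ X.gr g) ∧
    ∀ a : X.carrier →₀ R, (a.support : Set X.carrier) ⊆ B → Finsupp.linearCombination R id a = 0 → ∀ l, a l ∈ q
  obtain ⟨B, hB⟩ : ∃ B, Maximal Ind B := by
    refine zorn_subset {B | Ind B} fun c hc hchain => ⟨⋃₀ c, ⟨fun b hb => ?_, fun a ha h => ?_⟩,
      fun s hs => Set.subset_sUnion_of_mem hs⟩
    · obtain ⟨B, hB, hb⟩ := hb
      exact (hc hB).1 b hb
    · rcases c.eq_empty_or_nonempty with rfl | hne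
      · intro l
        rw [Set.sUnion_empty, Set.subset_empty_iff, Finset.coe_eq_empty, Finsupp.support_eq_empty] at ha
        rw [ha]; exact zero_mem _
      · obtain ⟨B, hB, hsub⟩ := DirectedOn.exists_mem_subset_of_finset_subset_biUnion hne hchain.directedOn
          (s := a.support) (by rwa [← Set.sUnion_eq_biUnion])
        exact (hc hB).2 a hsub h
  refine ⟨B, fun b => (b : X.carrier), ⟨fun a ha l => ?_, fun g x hx => ?_⟩⟩
  · have h := hB.1.2 (a.mapDomain Subtype.val) (fun y hy => by
      obtain ⟨z, -, rfl⟩ := Finset.mem_image.1 (Finsupp.mapDomain_support hy)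
      exact z.2) (by rw [Finsupp.linearCombination_mapDomain]; exact ha) l
    rwa [Finsupp.mapDomain_apply Subtype.val_injective] at h
  · rw [Subtype.range_coe_subtype, Set.setOf_mem_eq]
    by_cases hxB : x ∈ B
    · exact ⟨0, 1, SetLike.GradedOne.one_mem, fun h => hq.ne_top ((Ideal.eq_top_iff_one _).2 h),
        by rw [one_smul]; exact Submodule.subset_span hxB⟩
    · obtain ⟨a, ha, hsum, l, hl⟩ : ∃ a : X.carrier →₀ R, (a.support : Set X.carrier) ⊆ insert x B ∧
          Finsupp.linearCombination R id a = 0 ∧ ∃ l, a l ∉ q := by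
        by_contra h
        push Not at h
        exact hxB (hB.2 (y := insert x B) ⟨fun b hb => hb.elim (fun e => e ▸ ⟨g, hx⟩) (hB.1.1 b),
          fun a ha h' => h a ha h'⟩ (Set.subset_insert x B) (Set.mem_insert x B))
      have hax : a x ∉ q := by
        intro hx'
        refine hl ?_
        have hsplit := Finsupp.single_add_erase x a
        have h1 : Finsupp.linearCombination R id (a.erase x) = 0 := by
          rw [← hsplit, map_add, Finsupp.linearCombination_single, id, hkill _ hx' x, zero_add] at hsum
          exact hsum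
        have h2 := hB.1.2 (a.erase x) (fun y hy => by
          rw [Finsupp.support_erase, Finset.coe_erase] at hy
          exact (ha hy.1).resolve_left hy.2) h1 l
        by_cases hlx : l = x
        · exact hlx ▸ hx'
        · rwa [Finsupp.erase_ne hlx] at h2
      obtain ⟨S, hS⟩ := GrothLib.GrLC.exists_sum_cmp 𝒜 (a x)
      obtain ⟨j, hj⟩ : ∃ j, cmp 𝒜 j (a x) ∉ q := by
        by_contra h
        push Not at h
        exact hax (hS ▸ sum_mem fun j _ => h j)
      refine ⟨j, _, cmp_mem 𝒜 j (a x), hj, ?_⟩
      have h1 : cmp X.gr (g + j) (Finsupp.linearCombination R id a) = 0 := by rw [hsum, map_zero]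
      rw [← Finsupp.single_add_erase x a, map_add, map_add, Finsupp.linearCombination_single, id,
        cmp_smul_mem (𝒜 := 𝒜) X.gr _ hx, add_sub_cancel_left] at h1
      rw [eq_neg_of_add_eq_zero_left h1]
      refine neg_mem ?_
      rw [Finsupp.linearCombination_apply, Finsupp.sum, map_sum]
      refine sum_mem fun y hy => ?_
      rw [Finsupp.support_erase, Finset.mem_erase] at hy
      have hyB : y ∈ B := (ha (Finset.mem_coe.2 hy.2)).resolve_left hy.1
      obtain ⟨gy, hgy⟩ := hB.1.1 y hyB
      rw [id, cmp_smul_mem (𝒜 := 𝒜) X.gr _ hgy]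
      exact Submodule.smul_mem _ _ (Submodule.subset_span hyB)

end Graded

section Localised

variable {R : Type u} [CommRing R] {A : Type u} [CommRing A] [Algebra R A] (S : Submonoid R) [IsLocalization S A]

/-- A family independent modulo `q` that generates up to multipliers in `S` becomes a basis after localisation. -/
theorem nonempty_finsupp_equiv {q : Ideal R} (hqS : ∀ s ∈ S, s ∉ q) (hq : q.IsPrime)
    {G : Type u} [AddCommGroup G] [Module R G] {E : Type u} [AddCommGroup E] [Module A E] (L : G →+ E)
    (hL : ∀ (r : R) (x : G), L (r • x) = algebraMap R A r • L x)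
    (hLsurj : ∀ y : E, ∃ s ∈ S, ∃ x, algebraMap R A s • y = L x)
    (hLker : ∀ x, L x = 0 → ∃ s ∈ S, s • x = 0) (hkill : ∀ r ∈ q, ∀ x : G, r • x = 0)
    {Λ : Type u} (v : Λ → G) (hind : ∀ a : Λ →₀ R, Finsupp.linearCombination R v a = 0 → ∀ l, a l ∈ q)
    (hgen : ∀ x : G, ∃ s ∈ S, s • x ∈ Submodule.span R (Set.range v)) :
    Nonempty (E ≃ₗ[A] (Λ →₀ A ⧸ q.map (algebraMap R A))) := by
  classical
  let φ : (Λ →₀ A) →ₗ[A] E := Finsupp.linearCombination A fun l => L (v l)
  let ψ : (Λ →₀ A) →ₗ[A] (Λ →₀ A ⧸ q.map (algebraMap R A)) :=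
    Finsupp.mapRange.linearMap (q.map (algebraMap R A) : Submodule A A).mkQ
  have hψ : Function.Surjective ψ := by
    intro b
    obtain ⟨a, ha⟩ := Finsupp.mapRange_surjective (α := Λ) _ (map_zero (q.map (algebraMap R A) : Submodule A A).mkQ)
      (Submodule.mkQ_surjective _) b
    exact ⟨a, ha⟩
  have hφL : ∀ b : Λ →₀ R,
      φ (b.mapRange (algebraMap R A) (map_zero _)) = L (Finsupp.linearCombination R v b) := by
    intro b
    induction b using Finsupp.induction_linear with
    | zero => simp
    | add f g hf hg =>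
      rw [show (f + g).mapRange (algebraMap R A) (map_zero _) =
        f.mapRange (algebraMap R A) (map_zero _) + g.mapRange (algebraMap R A) (map_zero _) from
          Finsupp.ext fun i => by simp, map_add, map_add, map_add, hf, hg]
    | single l c =>
      rw [Finsupp.mapRange_single, Finsupp.linearCombination_single, Finsupp.linearCombination_single, hL]
  have hunit : ∀ s ∈ S, IsUnit (algebraMap R A s) := fun s hs => IsLocalization.map_units A ⟨s, hs⟩
  have hφ : Function.Surjective φ := fun y => by
    obtain ⟨s, hs, x, hx⟩ := hLsurj y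
    obtain ⟨t, ht, htx⟩ := hgen x
    obtain ⟨b, hb⟩ := (Finsupp.mem_span_range_iff_exists_finsupp).1 htx
    obtain ⟨w, hw⟩ := hunit _ (S.mul_mem ht hs)
    refine ⟨(↑w⁻¹ : A) • b.mapRange (algebraMap R A) (map_zero _), ?_⟩
    rw [map_smul, hφL, show Finsupp.linearCombination R v b = t • x from hb, hL, ← hx, smul_smul (algebraMap R A t),
      ← map_mul, ← hw, smul_smul, Units.inv_mul, one_smul]
  have hker : LinearMap.ker φ = LinearMap.ker ψ := by
    refine le_antisymm (fun a ha => ?_) fun a ha => ?_
    · obtain ⟨⟨s, hs⟩, hs'⟩ := IsLocalization.exist_integer_multiples_of_finset S (a.support.image a)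
      choose f hf using hs'
      let b : Λ →₀ R := Finsupp.onFinset a.support (fun l => if h : l ∈ a.support then
        f (a l) (Finset.mem_image_of_mem a h) else 0) (fun l hl => by
          by_contra h
          exact hl (dif_neg h))
      have hb : b.mapRange (algebraMap R A) (map_zero _) = algebraMap R A s • a := Finsupp.ext fun l => by
        simp only [Finsupp.mapRange_apply, Finsupp.smul_apply, smul_eq_mul, b, Finsupp.onFinset_apply]
        split_ifs with h
        · rw [hf, Algebra.smul_def]
        · rw [map_zero, Finsupp.notMem_support_iff.1 h, mul_zero]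
      have h1 : L (Finsupp.linearCombination R v b) = 0 := by
        rw [← hφL, hb, map_smul, LinearMap.mem_ker.1 ha, smul_zero]
      obtain ⟨t, ht, htb⟩ := hLker _ h1
      refine LinearMap.mem_ker.2 (Finsupp.ext fun l => ?_)
      change Submodule.Quotient.mk (a l) = (0 : A ⧸ q.map (algebraMap R A))
      rw [Submodule.Quotient.mk_eq_zero]
      have hl := hind (t • b) (by rw [map_smul]; exact htb) l
      rw [Finsupp.smul_apply, smul_eq_mul] at hl
      have hbl : algebraMap R A (b l) ∈ q.map (algebraMap R A) :=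
        Ideal.mem_map_of_mem _ ((hq.mem_or_mem hl).resolve_left (hqS t ht))
      have hbl' : algebraMap R A (b l) = algebraMap R A s * a l := by
        have := DFunLike.congr_fun hb l
        rwa [Finsupp.mapRange_apply, Finsupp.smul_apply, smul_eq_mul] at this
      rw [hbl'] at hbl
      exact (Ideal.unit_mul_mem_iff_mem _ (hunit s hs)).1 hbl
    · have hl : ∀ l, a l ∈ q.map (algebraMap R A) := fun l => by
        have := congrArg (fun z => z l) (LinearMap.mem_ker.1 ha)
        exact (Submodule.Quotient.mk_eq_zero _).1 this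
      have hE : ∀ c ∈ q.map (algebraMap R A), ∀ y : E, c • y = 0 := by
        intro c hc y
        induction hc using Submodule.span_induction generalizing y with
        | mem c hc =>
          obtain ⟨r, hr, rfl⟩ := hc
          obtain ⟨s, hs, x, hx⟩ := hLsurj y
          refine (hunit s hs).smul_eq_zero.1 ?_
          rw [smul_comm, hx, ← hL, hkill r hr x, map_zero]
        | zero => rw [zero_smul]
        | add c e _ _ hc he => rw [add_smul, hc, he, add_zero]
        | smul e c _ hc => rw [smul_eq_mul, mul_comm, mul_smul, hc]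
      rw [LinearMap.mem_ker]
      change Finsupp.linearCombination A (fun l => L (v l)) a = 0
      rw [Finsupp.linearCombination_apply, Finsupp.sum]
      exact Finset.sum_eq_zero fun l _ => hE _ (hl l) _
  exact ⟨(φ.quotKerEquivOfSurjective hφ).symm ≪≫ₗ Submodule.quotEquivOfEq _ _ hker ≪≫ₗ
    ψ.quotKerEquivOfSurjective hψ⟩

end Localised

end GrothLib.GrBass
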