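import Groth.Agent.Lib.GrBass.QBasis
import Groth.Agent.Lib.GrBass.Step
import Groth.Agent.Lib.GrLC.ExtVanish
import Groth.Agent.Lib.GrLC.ExtLoc
import Groth.Agent.Lib.GrLC.Hull

/-!
# `Ext` of a localised graded module from a graded prime is free
-/

universe u

open DirectSum CategoryTheory CategoryTheory.Abelian

namespace GrothLib.GrBass

open _root_.GrLC (GMod IsStarInjHull IsStarInj)
open GrothLib.GrLC (cmp cmp_mem cmp_of_mem gr_induction cmp_smul_mem cmp_smul_of_mem gmod quot sub IsHom)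

noncomputable section

variable {ι : Type} [AddCommGroup ι] [DecidableEq ι] {R : Type u} [CommRing R] {σ : Type u} [SetLike σ R]
  [AddSubgroupClass σ R] {𝒜 : ι → σ} [GradedRing 𝒜] (q : HomogeneousIdeal 𝒜)

/-- `P` contains `q` and no homogeneous element outside it. -/
structure Over (P : Ideal R) : Prop where
  le : q.toIdeal ≤ P
  hom : ∀ j, ∀ s ∈ 𝒜 j, s ∉ q.toIdeal → s ∉ P

theorem over_self : Over q q.toIdeal := ⟨le_rfl, fun _ _ _ h => h⟩

/-- The ideal as a submodule of `R`. -/
abbrev qSub : Submodule R (gmod 𝒜 𝒜).carrier := q.toIdeal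

theorem isHomogeneous_toIdeal : (qSub q).IsHomogeneous (gmod 𝒜 𝒜).gr :=
  fun g r hr => by
    have e := GrothLib.GrLC.cmp_eq_proj (gmod 𝒜 𝒜) (g := g) (cmp (M := R) 𝒜 g) (fun y hy => cmp_of_mem 𝒜 hy)
      (fun h hne y hy => GrothLib.GrLC.cmp_of_mem_ne 𝒜 hy hne) r
    exact (congrArg (· ∈ (q.toIdeal : Submodule R R)) e).mpr (q.isHomogeneous g hr)

/-- The quotient `R/q` as a graded module. -/
abbrev qMod : GMod.{u} 𝒜 := quot (gmod 𝒜 𝒜) (qSub q) (isHomogeneous_toIdeal q)

variable {q}

theorem isHomogeneous_tb (X : GMod.{u} 𝒜) :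
    (Submodule.torsionBySet R X.carrier (q.toIdeal : Set R)).IsHomogeneous X.gr := fun g x hx => by
  rw [Submodule.mem_torsionBySet_iff] at hx ⊢
  rintro ⟨r, hr⟩
  change r • cmp X.gr g x = 0
  obtain ⟨S, hS⟩ := GrothLib.GrLC.exists_sum_cmp 𝒜 r
  rw [hS, Finset.sum_smul]
  refine Finset.sum_eq_zero fun j _ => ?_
  have h1 := cmp_smul_of_mem (𝒜 := 𝒜) X.gr (cmp_mem 𝒜 j r) x (j + g)
  rw [add_sub_cancel_left, show cmp 𝒜 j r • x = 0 from hx ⟨_, q.isHomogeneous j hr⟩, map_zero] at h1
  exact h1.symm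

variable (q) in
/-- The part of a graded module killed by `q`. -/
abbrev tb (X : GMod.{u} 𝒜) : GMod.{u} 𝒜 := sub X _ (isHomogeneous_tb (q := q) X)

theorem tb_kill (X : GMod.{u} 𝒜) : ∀ r ∈ q.toIdeal, ∀ x : (tb q X).carrier, r • x = 0 := fun r hr x =>
  Subtype.ext ((Submodule.mem_torsionBySet_iff _ _).1 x.2 ⟨r, hr⟩)

/-- The map out of `R/q` given by an element killed by `q`. -/
def ofTb (X : GMod.{u} 𝒜) : (tb q X).carrier →ₗ[R] (ModuleCat.of R (R ⧸ q.toIdeal) ⟶ ModuleCat.of R X.carrier) where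
  toFun x := ModuleCat.ofHom (X := R ⧸ q.toIdeal) (Submodule.liftQ (q.toIdeal : Submodule R R) (LinearMap.toSpanSingleton R X.carrier x.1)
    fun r hr => LinearMap.mem_ker.2 ((Submodule.mem_torsionBySet_iff _ _).1 x.2 ⟨r, hr⟩))
  map_add' x y := ModuleCat.hom_ext (LinearMap.ext fun z => by
    obtain ⟨z, rfl⟩ := Submodule.Quotient.mk_surjective _ z
    exact smul_add (z : R) x.1 y.1)
  map_smul' r x := ModuleCat.hom_ext (LinearMap.ext fun z => by
    obtain ⟨z, rfl⟩ := Submodule.Quotient.mk_surjective _ z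
    exact smul_comm (z : R) r x.1)

theorem ofTb_eq_zero {X : GMod.{u} 𝒜} {x : (tb q X).carrier} (h : ofTb X x = 0) : x = 0 :=
  Subtype.ext ((one_smul R x.1).symm.trans
    (LinearMap.congr_fun (congrArg ModuleCat.Hom.hom h) (Submodule.Quotient.mk (1 : R))))

theorem exists_ofTb {X : GMod.{u} 𝒜} (ψ : ModuleCat.of R (R ⧸ q.toIdeal) ⟶ ModuleCat.of R X.carrier) :
    ∃ x : (tb q X).carrier, ofTb X x = ψ := by
  refine ⟨⟨ψ.hom (Submodule.Quotient.mk (1 : R)), (Submodule.mem_torsionBySet_iff _ _).2 fun r => ?_⟩,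
    ModuleCat.hom_ext (LinearMap.ext fun z => ?_)⟩
  · change (r : R) • ψ.hom _ = 0
    rw [← map_smul]
    refine (congrArg ψ.hom ?_).trans (map_zero ψ.hom)
    exact (Submodule.Quotient.mk_smul (q.toIdeal : Submodule R R) (r : R) (1 : R)).symm.trans
      ((Submodule.Quotient.mk_eq_zero _).2 (by rw [smul_eq_mul, mul_one]; exact r.2))
  · obtain ⟨z, rfl⟩ := Submodule.Quotient.mk_surjective _ z
    change (z : R) • ψ.hom _ = _
    rw [← map_smul]
    refine congrArg ψ.hom ?_
    exact (Submodule.Quotient.mk_smul (q.toIdeal : Submodule R R) z (1 : R)).symm.trans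
      (congrArg Submodule.Quotient.mk (mul_one z))

variable [IsNoetherianRing R]

section Prime

variable (P : Ideal R) [P.IsPrime]

set_option quotPrecheck false in
local notation "A" => Localization P.primeCompl
set_option quotPrecheck false in
local notation "B" => (ModuleCat.of R (R ⧸ q.toIdeal)).localizedModule P.primeCompl

omit [IsNoetherianRing R] in
/-- The localised `R/q` is the quotient of the local ring. -/
theorem nonempty_iso_quotient :
    Nonempty (B ≅ ModuleCat.of A (A ⧸ q.toIdeal.map (algebraMap R A))) := by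
  let S := P.primeCompl
  let mk := (ModuleCat.of R (R ⧸ q.toIdeal)).localizedModuleMkLinearMap S
  let one : B := mk (Submodule.Quotient.mk (1 : R))
  haveI := ModuleCat.localizedModule_isLocalizedModule (ModuleCat.of R (R ⧸ q.toIdeal)) S
  let φ : A →ₗ[A] B := LinearMap.toSpanSingleton A B one
  have hφr : ∀ r : R, φ (algebraMap R A r) = mk (Submodule.Quotient.mk r) := fun r => by
    change algebraMap R A r • one = _
    rw [algebraMap_smul, ← map_smul]
    exact congrArg mk ((Submodule.Quotient.mk_smul (q.toIdeal : Submodule R R) r (1 : R)).symm.trans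
      (congrArg Submodule.Quotient.mk (mul_one r)))
  have hφ : Function.Surjective φ := fun z => by
    obtain ⟨⟨m, s⟩, rfl⟩ := IsLocalizedModule.mk'_surjective S mk z
    obtain ⟨r, rfl⟩ := Submodule.Quotient.mk_surjective _ m
    refine ⟨IsLocalization.mk' A r s, (IsUnit.smul_left_cancel (IsLocalization.map_units A s)).1 ?_⟩
    rw [← map_smul, smul_eq_mul, mul_comm, IsLocalization.mk'_spec, hφr, algebraMap_smul, ← Submonoid.smul_def,
      Function.uncurry_apply_pair, IsLocalizedModule.mk'_cancel']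
  have hker : LinearMap.ker φ = q.toIdeal.map (algebraMap R A) := by
    ext a
    obtain ⟨⟨r, s⟩, rfl⟩ := IsLocalization.mk'_surjective S a
    have hiff : φ (IsLocalization.mk' A r s) = 0 ↔ φ (algebraMap R A r) = 0 := by
      rw [← IsLocalization.mk'_spec A r s, mul_comm, ← smul_eq_mul, map_smul,
        (IsLocalization.map_units A s).smul_eq_zero]
    rw [LinearMap.mem_ker]
    refine hiff.trans ?_
    rw [hφr, IsLocalizedModule.eq_zero_iff S]
    constructor
    · rintro ⟨t, ht⟩
      rw [IsLocalization.mk'_mem_map_algebraMap_iff]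
      refine ⟨t, t.2, ?_⟩
      exact (Submodule.Quotient.mk_eq_zero _).1 ((Submodule.Quotient.mk_smul _ (t : R) r).trans ht)
    · intro h
      obtain ⟨t, ht, htr⟩ := (IsLocalization.mk'_mem_map_algebraMap_iff S _ _ _ _).1 h
      exact ⟨⟨t, ht⟩, (Submodule.Quotient.mk_smul (q.toIdeal : Submodule R R) t r).symm.trans
        ((Submodule.Quotient.mk_eq_zero _).2 htr)⟩
  exact ⟨((φ.quotKerEquivOfSurjective hφ).symm ≪≫ₗ Submodule.quotEquivOfEq _ _ hker).toModuleIso⟩

variable {P}

omit [IsNoetherianRing R] in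
theorem span_gen (hP : Over q P) {G : GMod.{u} 𝒜} {Λ : Type u} {v : Λ → G.carrier}
    (hv : IsQBasis q.toIdeal G v) (x : G.carrier) : ∃ s ∈ P.primeCompl, s • x ∈ Submodule.span R (Set.range v) := by
  induction x using gr_induction G.gr with
  | h0 => exact ⟨1, one_mem _, by rw [smul_zero]; exact zero_mem _⟩
  | hadd a b ha hb =>
    obtain ⟨s, hs, hsa⟩ := ha
    obtain ⟨t, ht, htb⟩ := hb
    refine ⟨s * t, P.primeCompl.mul_mem hs ht, ?_⟩
    rw [smul_add]
    exact add_mem (by rw [mul_comm, mul_smul]; exact Submodule.smul_mem _ t hsa)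
      (by rw [mul_smul]; exact Submodule.smul_mem _ s htb)
  | hh g x hx =>
    obtain ⟨j, s, hs, hsq, hsx⟩ := hv.gen g x hx
    exact ⟨s, hP.hom j s hs hsq, hsx⟩

theorem smul_mk₀ {X : GMod.{u} 𝒜} (r : R) (f : ModuleCat.of R (R ⧸ q.toIdeal) ⟶ ModuleCat.of R X.carrier) :
    Ext.mk₀ (ModuleCat.localizedModuleMap P.primeCompl (r • f)) =
      algebraMap R A r • Ext.mk₀ (ModuleCat.localizedModuleMap P.primeCompl f) := by
  rw [← Ext.mk₀_smul]
  congr 1
  refine GrothLib.GrLC.ExtLoc.hom_ext_mk _ _ fun m => ?_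
  rw [GrothLib.GrLC.ExtLoc.locMap_mk]
  show _ = algebraMap R A r • (ModuleCat.localizedModuleMap P.primeCompl f).hom _
  rw [GrothLib.GrLC.ExtLoc.locMap_mk, algebraMap_smul, ← map_smul]
  rfl

omit [IsNoetherianRing R] in
theorem locMap_add {X Y : ModuleCat.{u} R} (f g : X ⟶ Y) :
    ModuleCat.localizedModuleMap P.primeCompl (f + g) =
      ModuleCat.localizedModuleMap P.primeCompl f + ModuleCat.localizedModuleMap P.primeCompl g :=
  (ModuleCat.localizedModuleFunctor P.primeCompl).map_add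

/-- Degree zero: any quasi-basis of the part killed by `q` is a basis of the localised `Hom`. -/
theorem rank_zero (hP : Over q P) (hq : q.toIdeal.IsPrime) (X : GMod.{u} 𝒜) {Λ : Type u}
    {v : Λ → (tb q X).carrier} (hv : IsQBasis q.toIdeal (tb q X) v) :
    Nonempty (Ext B ((ModuleCat.of R X.carrier).localizedModule P.primeCompl) 0 ≃ₗ[A]
      (Λ →₀ A ⧸ q.toIdeal.map (algebraMap R A))) := by
  refine nonempty_finsupp_equiv (R := R) P.primeCompl (fun s hs h => hs (hP.le h)) hq
    (AddMonoidHom.mk' (fun x => Ext.mk₀ (ModuleCat.localizedModuleMap P.primeCompl (ofTb X x))) fun a b => by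
      rw [map_add, locMap_add, Ext.mk₀_add])
    (fun r x => ?_) (fun y => ?_) (fun x hx => ?_) (tb_kill X) v hv.indep (span_gen hP hv)
  · change Ext.mk₀ _ = _ • Ext.mk₀ _
    rw [map_smul, smul_mk₀]
  · obtain ⟨φ, rfl⟩ := (Ext.mk₀_bijective _ _).2 y
    obtain ⟨ψ, s, hs⟩ := GrothLib.GrLC.ExtLoc.exists_lift φ
    obtain ⟨x, rfl⟩ := exists_ofTb ψ
    exact ⟨s, s.2, x, by rw [← Ext.mk₀_smul]; exact congrArg Ext.mk₀ hs.symm⟩
  · obtain ⟨s, hs⟩ := GrothLib.GrLC.ExtLoc.exists_smul_eq_zero (ofTb X x)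
      ((Ext.mk₀_bijective _ _).1 (hx.trans (Ext.mk₀_zero _ _).symm))
    exact ⟨s, s.2, ofTb_eq_zero (by rw [map_smul]; exact hs)⟩

section Hull

variable (P)
variable {X E : GMod.{u} 𝒜} {f : X.carrier →ₗ[R] E.carrier} (hf : IsStarInjHull 𝒜 X.gr E.gr f)

/-- The cokernel in a hull. -/
abbrev coker (hf : IsStarInjHull 𝒜 X.gr E.gr f) : GMod.{u} 𝒜 :=
  quot E (LinearMap.range f) (GrothLib.GrLC.isHomogeneous_range hf.grHom)

/-- The localised hull sequence. -/
abbrev hullSeq : ShortComplex (ModuleCat.{u} R) :=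
  ShortComplex.mk (X₁ := ModuleCat.of R X.carrier) (X₂ := ModuleCat.of R E.carrier)
    (X₃ := ModuleCat.of R (coker hf).carrier) (ModuleCat.ofHom f) (ModuleCat.ofHom (LinearMap.range f).mkQ)
    (ModuleCat.hom_ext (LinearMap.ext fun x => (Submodule.Quotient.mk_eq_zero _).2 ⟨x, rfl⟩))

omit [IsNoetherianRing R] in
theorem hullSeq_shortExact :
    ((hullSeq hf).map (ModuleCat.localizedModuleFunctor P.primeCompl)).ShortExact := by
  have h : (hullSeq hf).ShortExact :=
    { exact := (ShortComplex.ShortExact.moduleCat_exact_iff_function_exact _).2 (LinearMap.exact_map_mkQ_range f)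
      mono_f := (ModuleCat.mono_iff_injective _).2 hf.injective
      epi_g := (ModuleCat.epi_iff_surjective _).2 (Submodule.mkQ_surjective _) }
  exact h.map_of_exact _

include hf in
theorem subsingleton_ext_hull (n : ℕ) :
    Subsingleton (Ext B ((ModuleCat.of R E.carrier).localizedModule P.primeCompl) (n + 1)) := by
  refine (GrothLib.GrLC.ExtLoc.subsingleton_ext_localized_iff (n + 1) _).2 fun e => ⟨1, ?_⟩
  exact @Subsingleton.elim _ (GrothLib.GrLC.subsingleton_ext hf.starInj n (qMod q)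
    (inferInstance : Module.Finite R (R ⧸ q.toIdeal))) _ _

/-- The connecting map as a linear map. -/
def hullDelta (n : ℕ) :
    Ext B ((ModuleCat.of R (coker hf).carrier).localizedModule P.primeCompl) n →ₗ[A]
      Ext B ((ModuleCat.of R X.carrier).localizedModule P.primeCompl) (n + 1) where
  toFun e := e.comp (hullSeq_shortExact P hf).extClass rfl
  map_add' a b := Ext.add_comp _ _ _ _
  map_smul' r a := Ext.smul_comp _ _ _ _

theorem hullDelta_surjective (n : ℕ) : Function.Surjective (hullDelta (q := q) P hf n) := fun e => by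
  obtain ⟨y, hy⟩ := Ext.covariant_sequence_exact₁ _ (hullSeq_shortExact P hf) e
    (@Subsingleton.elim _ (subsingleton_ext_hull (q := q) P hf n) _ _) rfl
  exact ⟨y, hy⟩

theorem hullDelta_injective (n : ℕ) : Function.Injective (hullDelta (q := q) P hf (n + 1)) :=
  (injective_iff_map_eq_zero _).2 fun e he => by
    obtain ⟨y, hy⟩ := Ext.covariant_sequence_exact₃ _ (hullSeq_shortExact P hf) e rfl he
    rw [show y = 0 from @Subsingleton.elim _ (subsingleton_ext_hull (q := q) P hf n) _ _, Ext.zero_comp] at hy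
    exact hy.symm

omit [IsNoetherianRing R] [P.IsPrime] in
include hf in
theorem isHom_tbMap (g : E.carrier →ₗ[R] (coker hf).carrier) (hg : IsHom g) :
    ∃ h : (tb q E).carrier →ₗ[R] (tb q (coker hf)).carrier, IsHom h ∧ ∀ x, (h x).1 = g x.1 :=
  ⟨g.restrict fun x hx => (Submodule.mem_torsionBySet_iff _ _).2 fun r => by
      rw [← map_smul, (Submodule.mem_torsionBySet_iff _ _).1 hx r, map_zero],
    fun d x hx => hg d x.1 hx, fun _ => rfl⟩

/-- Degree one. -/
theorem rank_one (hP : Over q P) (hq : q.toIdeal.IsPrime) {h : (tb q E).carrier →ₗ[R] (tb q (coker hf)).carrier}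
    (hh : IsHom h) (hh' : ∀ x, (h x).1 = Submodule.mkQ (LinearMap.range f) x.1) {Λ : Type u}
    {v : Λ → (quot (tb q (coker hf)) (LinearMap.range h) (GrothLib.GrLC.isHomogeneous_range hh)).carrier}
    (hv : IsQBasis q.toIdeal (quot (tb q (coker hf)) (LinearMap.range h) (GrothLib.GrLC.isHomogeneous_range hh)) v) :
    Nonempty (Ext B ((ModuleCat.of R X.carrier).localizedModule P.primeCompl) 1 ≃ₗ[A]
      (Λ →₀ A ⧸ q.toIdeal.map (algebraMap R A))) := by
  let L₀ : (tb q (coker hf)).carrier →+ Ext B ((ModuleCat.of R X.carrier).localizedModule P.primeCompl) 1 :=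
    AddMonoidHom.mk' (fun x => hullDelta P hf 0 (Ext.mk₀ (ModuleCat.localizedModuleMap P.primeCompl (ofTb _ x))))
      fun a b => by rw [map_add, locMap_add, Ext.mk₀_add, map_add]
  have hL₀r : ∀ (r : R) x, L₀ (r • x) = algebraMap R A r • L₀ x := fun r x => by
    change hullDelta P hf 0 _ = _ • hullDelta P hf 0 _
    rw [map_smul, smul_mk₀, map_smul]
  have hcomp : ∀ y : (tb q E).carrier, ofTb _ (h y) = ofTb E y ≫ (hullSeq hf).g := fun y =>
    ModuleCat.hom_ext (LinearMap.ext fun z => by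
      obtain ⟨z, rfl⟩ := Submodule.Quotient.mk_surjective _ z
      change (z : R) • (h y).1 = Submodule.mkQ (LinearMap.range f) ((z : R) • y.1)
      rw [hh', map_smul]
      rfl)
  have hL₀h : LinearMap.range h ≤ {
      carrier := {x | L₀ x = 0}
      add_mem' := fun {a b} ha hb => by
        change L₀ (a + b) = 0
        rw [map_add, ha, hb, add_zero]
      zero_mem' := map_zero L₀
      smul_mem' := fun r a ha => by
        change L₀ (r • a) = 0
        rw [hL₀r, ha, smul_zero] } := by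
    rintro _ ⟨y, rfl⟩
    change hullDelta P hf 0 _ = 0
    rw [hcomp]
    change (Ext.mk₀ ((ModuleCat.localizedModuleFunctor P.primeCompl).map _)).comp _ (rfl : 0 + 1 = 1) = 0
    rw [Functor.map_comp, ← Ext.mk₀_comp_mk₀]
    exact (Ext.comp_assoc_of_second_deg_zero _ _ _ _).trans (by
      rw [show (Ext.mk₀ ((ModuleCat.localizedModuleFunctor P.primeCompl).map (hullSeq hf).g)).comp
        (hullSeq_shortExact P hf).extClass (zero_add 1) = 0 from (hullSeq_shortExact P hf).comp_extClass,
        Ext.comp_zero])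
  let L : (quot (tb q (coker hf)) (LinearMap.range h) (GrothLib.GrLC.isHomogeneous_range hh)).carrier →+
      Ext B ((ModuleCat.of R X.carrier).localizedModule P.primeCompl) 1 :=
    QuotientAddGroup.lift (LinearMap.range h).toAddSubgroup L₀ fun x hx => hL₀h hx
  refine nonempty_finsupp_equiv (R := R) P.primeCompl (fun s hs h => hs (hP.le h)) hq L
    (fun r x => ?_) (fun y => ?_) (fun x hx => ?_) (fun r hr x => ?_) v hv.indep (span_gen hP hv)
  · obtain ⟨x, rfl⟩ := Submodule.Quotient.mk_surjective _ x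
    exact hL₀r r x
  · obtain ⟨e, rfl⟩ := hullDelta_surjective P hf 0 y
    obtain ⟨φ, rfl⟩ := (Ext.mk₀_bijective _ _).2 e
    obtain ⟨ψ, s, hs⟩ := GrothLib.GrLC.ExtLoc.exists_lift φ
    obtain ⟨x, rfl⟩ := exists_ofTb ψ
    refine ⟨s, s.2, Submodule.Quotient.mk x, ?_⟩
    rw [← map_smul, ← Ext.mk₀_smul]
    exact congrArg (fun z => hullDelta P hf 0 (Ext.mk₀ z)) hs.symm
  · obtain ⟨x, rfl⟩ := Submodule.Quotient.mk_surjective _ x
    obtain ⟨e, he⟩ := Ext.covariant_sequence_exact₃ _ (hullSeq_shortExact P hf) _ rfl hx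
    obtain ⟨φ, rfl⟩ := (Ext.mk₀_bijective _ _).2 e
    obtain ⟨ψ, s, hs⟩ := GrothLib.GrLC.ExtLoc.exists_lift φ
    obtain ⟨y, rfl⟩ := exists_ofTb ψ
    replace he := (Ext.mk₀_bijective _ _).1 ((Ext.mk₀_comp_mk₀ _ _).symm.trans he)
    obtain ⟨t, ht⟩ := GrothLib.GrLC.ExtLoc.exists_smul_eq_zero
      ((s : R) • ofTb _ x - ofTb _ (h y)) (by
        change (ModuleCat.localizedModuleFunctor P.primeCompl).map _ = 0
        rw [Functor.map_sub, sub_eq_zero]
        change ModuleCat.localizedModuleMap _ _ = ModuleCat.localizedModuleMap _ _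
        rw [GrothLib.GrLC.ExtLoc.map_smul_hom, hcomp]
        change _ = (ModuleCat.localizedModuleFunctor P.primeCompl).map (ofTb E y ≫ (hullSeq hf).g)
        rw [Functor.map_comp, ← he]
        change _ = ModuleCat.localizedModuleMap _ (ofTb E y) ≫ _
        exact ((Linear.smul_comp _ _ _ _ _ _).symm.trans
          (congrArg (fun z => z ≫ ((hullSeq hf).map (ModuleCat.localizedModuleFunctor P.primeCompl)).g) hs.symm)))
    refine ⟨(t : R) * s, P.primeCompl.mul_mem t.2 s.2, ?_⟩
    refine (Submodule.Quotient.mk_eq_zero (LinearMap.range h) (x := ((t : R) * s) • x)).2 ⟨(t : R) • y, ?_⟩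
    rw [map_smul, mul_smul]
    refine (sub_eq_zero.1 (ofTb_eq_zero ?_)).symm
    rw [map_sub, map_smul, map_smul, map_smul, ← smul_sub]
    exact ht
  · obtain ⟨x, rfl⟩ := Submodule.Quotient.mk_surjective _ x
    exact (congrArg (Submodule.Quotient.mk (p := LinearMap.range h)) (tb_kill _ r hr x)).trans
      (map_zero (LinearMap.range h).mkQ)

end Hull

end Prime

/-- All the localised `Ext`s out of a graded prime are free, on index types independent of the localisation. -/
theorem exists_rank (hq : q.toIdeal.IsPrime) : ∀ (b : ℕ) (X : GMod.{u} 𝒜), ∃ Λ : Type u,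
    ∀ (P : Ideal R) [P.IsPrime], Over q P →
      Nonempty (Ext ((ModuleCat.of R (R ⧸ q.toIdeal)).localizedModule P.primeCompl)
        ((ModuleCat.of R X.carrier).localizedModule P.primeCompl) b ≃ₗ[Localization P.primeCompl]
        (Λ →₀ Localization P.primeCompl ⧸ q.toIdeal.map (algebraMap R (Localization P.primeCompl)))) := by
  intro b
  induction b with
  | zero =>
    intro X
    obtain ⟨Λ, v, hv⟩ := exists_qBasis hq (tb q X) (tb_kill X)
    exact ⟨Λ, fun P _ hP => rank_zero hP hq X hv⟩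
  | succ b ih =>
    intro X
    obtain ⟨E, f, hf⟩ := GrothLib.GrLC.exists_hull X
    rcases b with - | b
    · obtain ⟨h, hh, hh'⟩ := isHom_tbMap (q := q) hf (LinearMap.range f).mkQ
        (GrothLib.GrLC.isHom_mkQ E _ (GrothLib.GrLC.isHomogeneous_range hf.grHom))
      obtain ⟨Λ, v, hv⟩ := exists_qBasis hq (quot (tb q (coker hf)) (LinearMap.range h)
        (GrothLib.GrLC.isHomogeneous_range hh)) fun r hr x => by
          obtain ⟨x, rfl⟩ := Submodule.Quotient.mk_surjective _ x
          exact (congrArg (Submodule.Quotient.mk (p := LinearMap.range h)) (tb_kill _ r hr x)).trans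
            (map_zero (LinearMap.range h).mkQ)
      exact ⟨Λ, fun P _ hP => rank_one P hf hP hq hh hh' hv⟩
    · obtain ⟨Λ, hΛ⟩ := ih (coker hf)
      refine ⟨Λ, fun P _ hP => ?_⟩
      obtain ⟨e⟩ := hΛ P hP
      exact ⟨(LinearEquiv.ofBijective _
        ⟨hullDelta_injective P hf b, hullDelta_surjective P hf (b + 1)⟩).symm ≪≫ₗ e⟩

end

end GrothLib.GrBass
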